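import Mathlib
import Groth.Agent.Lib.Helper9.Unipotent
import Groth.Agent.Lib.Helper9.Comod4

/-!
# The coradical-type filtration of a unipotent Hopf algebra (helper2)

For a bialgebra `A` over a field, `filt 0 = 0` and `filt (n+1)` is the set of `x` with
`Δ x - x ⊗ 1 ∈ filt n ⊗ A`.  For a unipotent `A` this filtration is exhaustive.  A bialgebra map out
of a bialgebra with such an exhaustive filtration into a bialgebra without primitive elements is
trivial.
-/

set_option autoImplicit false
open scoped TensorProduct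

namespace Groth.Agent.Helper2.Unip

universe u v w

section general

variable {R : Type u} [CommRing R] {H₁ : Type v} {H₂ : Type w} [Ring H₁] [Ring H₂]
  [Bialgebra R H₁] [Bialgebra R H₂]

lemma map_rTensor_eq (φ : H₁ →ₐc[R] H₂) (F : Submodule R H₁)
    (hF : ∀ x ∈ F, φ x = algebraMap R H₂ (Coalgebra.counit (R := R) x))
    (t : F ⊗[R] H₁) :
    TensorProduct.map (φ : H₁ →ₗ[R] H₂) (φ : H₁ →ₗ[R] H₂) (F.subtype.rTensor H₁ t) =
      (1 : H₂) ⊗ₜ[R] φ (TensorProduct.lid R H₁
        ((Coalgebra.counit (R := R) (A := H₁)).rTensor H₁ (F.subtype.rTensor H₁ t))) := by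
  induction t using TensorProduct.induction_on with
  | zero => simp
  | add s t hs ht =>
    simp only [map_add] at hs ht ⊢
    rw [hs, ht, TensorProduct.tmul_add]
  | tmul a b =>
    simp only [LinearMap.rTensor_tmul, Submodule.subtype_apply, TensorProduct.map_tmul,
      TensorProduct.lid_tmul]
    show φ (a : H₁) ⊗ₜ[R] φ b = _
    rw [hF _ a.2, Algebra.algebraMap_eq_smul_one, TensorProduct.smul_tmul, map_smul]

/-- a bialgebra map is trivial on an exhaustive "unipotent" filtration when the target has no
primitive elements -/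
theorem apply_eq_of_filtration (φ : H₁ →ₐc[R] H₂)
    (hprim : ∀ y : H₂, Coalgebra.comul (R := R) y = y ⊗ₜ[R] 1 + 1 ⊗ₜ[R] y → y = 0)
    (E : ℕ → Submodule R H₁) (h0 : E 0 = ⊥)
    (hE : ∀ n, ∀ x ∈ E (n + 1), Coalgebra.comul (R := R) x - x ⊗ₜ[R] (1 : H₁) ∈
      LinearMap.range ((E n).subtype.rTensor H₁)) :
    ∀ n, ∀ x ∈ E n, φ x = algebraMap R H₂ (Coalgebra.counit (R := R) x) := by
  intro n
  induction n with
  | zero =>
    intro x hx
    rw [h0, Submodule.mem_bot] at hx
    rw [hx, map_zero, map_zero, map_zero]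
  | succ n ih =>
    intro x hx
    obtain ⟨t, ht⟩ := hE n x hx
    have h1 := map_rTensor_eq φ (E n) ih t
    rw [ht] at h1
    have h2 : TensorProduct.lid R H₁ ((Coalgebra.counit (R := R) (A := H₁)).rTensor H₁
        (Coalgebra.comul (R := R) x - x ⊗ₜ[R] (1 : H₁))) =
        x - Coalgebra.counit (R := R) x • (1 : H₁) := by
      rw [map_sub, map_sub, Coalgebra.rTensor_counit_comul, LinearMap.rTensor_tmul,
        TensorProduct.lid_tmul, TensorProduct.lid_tmul, one_smul]
    rw [h2] at h1
    have h3 : TensorProduct.map (φ : H₁ →ₗ[R] H₂) (φ : H₁ →ₗ[R] H₂)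
        (Coalgebra.comul (R := R) x) = Coalgebra.comul (R := R) (φ x) :=
      CoalgHomClass.map_comp_comul_apply φ x
    rw [map_sub, h3, TensorProduct.map_tmul] at h1
    have hφ1 : (φ : H₁ →ₗ[R] H₂) (1 : H₁) = 1 := map_one φ
    have hφx : (φ : H₁ →ₗ[R] H₂) x = φ x := rfl
    rw [hφ1, hφx] at h1
    set c := Coalgebra.counit (R := R) x with hc
    have hy : φ x - algebraMap R H₂ c = 0 := by
      apply hprim
      rw [map_sub, Bialgebra.comul_algebraMap, sub_eq_iff_eq_add.mp h1, map_sub, map_smul,
        map_one, Algebra.algebraMap_eq_smul_one, Algebra.algebraMap_eq_smul_one,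
        Algebra.TensorProduct.one_def, TensorProduct.sub_tmul, TensorProduct.tmul_sub,
        TensorProduct.smul_tmul']
      abel
    exact sub_eq_zero.mp hy

end general

section field

variable (k : Type u) [Field k] (A : Type v) [CommRing A] [Bialgebra k A]

/-- the coradical-type filtration -/
noncomputable def filt : ℕ → Submodule k A
  | 0 => ⊥
  | n + 1 => (LinearMap.range ((filt n).subtype.rTensor A)).comap
      (Coalgebra.comul (R := k) (A := A) - (TensorProduct.mk k A A).flip 1)

variable {k A}

lemma filt_zero : filt k A 0 = ⊥ := rfl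

lemma mem_filt_succ {n : ℕ} {x : A} :
    x ∈ filt k A (n + 1) ↔ Coalgebra.comul (R := k) x - x ⊗ₜ[k] (1 : A) ∈
      LinearMap.range ((filt k A n).subtype.rTensor A) := Iff.rfl

lemma range_rTensor_mono {F G : Submodule k A} (h : F ≤ G) :
    LinearMap.range (F.subtype.rTensor A) ≤ LinearMap.range (G.subtype.rTensor A) := by
  rintro _ ⟨t, rfl⟩
  refine ⟨(Submodule.inclusion h).rTensor A t, ?_⟩
  rw [← LinearMap.comp_apply, ← LinearMap.rTensor_comp]
  rfl

lemma filt_mono_succ (n : ℕ) : filt k A n ≤ filt k A (n + 1) := by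
  induction n with
  | zero => rw [filt_zero]; exact bot_le
  | succ n ih =>
    intro x hx
    rw [mem_filt_succ] at hx ⊢
    exact range_rTensor_mono ih hx

lemma filt_mono : Monotone (filt k A) := monotone_nat_of_le_succ filt_mono_succ

open Groth.Agent.Helper9 in
/-- the filtration of a unipotent Hopf algebra is exhaustive -/
theorem exists_mem_filt_of_isUnipotent (hU : HopfRep.IsUnipotent k A) (x : A) :
    ∃ n, x ∈ filt k A n := by
  obtain ⟨W, hWfin, hxW, hW⟩ := exists_finite_subcomod_mem (k := k) (C := A) (V := A) x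
  letI : HopfRep.Comod k A W := subComod W hW
  obtain ⟨m, F, -, hF0, hFm, -, hFt⟩ := hasTrivFlag_of_isUnipotent hU W hWfin
  have key : ∀ i, ∀ w ∈ F i, (w : A) ∈ filt k A i := by
    intro i
    induction i with
    | zero =>
      intro w hw
      rw [hF0, Submodule.mem_bot] at hw
      rw [hw]
      exact Submodule.zero_mem _
    | succ i ih =>
      intro w hw
      rw [mem_filt_succ]
      obtain ⟨t, ht⟩ := hFt i w hw
      let g : F i →ₗ[k] filt k A i :=
        LinearMap.codRestrict (filt k A i) (W.subtype ∘ₗ (F i).subtype) (fun v => ih v v.2)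
      have hg : (filt k A i).subtype ∘ₗ g = W.subtype ∘ₗ (F i).subtype := by
        apply LinearMap.ext
        intro v
        rfl
      refine ⟨g.rTensor A t, ?_⟩
      rw [← LinearMap.comp_apply, ← LinearMap.rTensor_comp, hg, LinearMap.rTensor_comp,
        LinearMap.comp_apply, ht, map_sub, LinearMap.rTensor_tmul]
      have h1 : W.subtype.rTensor A (HopfRep.Comod.coact (k := k) (A := A) w) =
          Coalgebra.comul (R := k) (w : A) := subtype_rTensor_subCoact W hW w
      rw [h1]
      rfl
  refine ⟨m, ?_⟩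
  have := key m ⟨x, hxW⟩ (by rw [hFm]; trivial)
  exact this

end field

end Groth.Agent.Helper2.Unip
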