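import Mathlib
import Groth.Agent.Lib.Helper2.Unip.Filt

/-!
# A bialgebra with an exhaustive unipotent filtration is unipotent (helper2)
-/

set_option autoImplicit false
open scoped TensorProduct
open Groth.Agent.Helper9

namespace Groth.Agent.Helper2.Unip

universe u v w

section

variable {K : Type u} [Field K] {H : Type v} [CommRing H] [Bialgebra K H]

/-- the vectors whose coaction has coefficients in `F` (tested by functionals vanishing on `F`) -/
def coeffIn (F : Submodule K H) (V : Type w) [AddCommGroup V] [Module K V] [HopfRep.Comod K H V] :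
    Submodule K V where
  carrier := {v | ∀ g : H →ₗ[K] K, (∀ e ∈ F, g e = 0) →
    slice g (HopfRep.Comod.coact (k := K) (A := H) v) = 0}
  add_mem' := by
    intro a b ha hb g hg
    rw [map_add, map_add, ha g hg, hb g hg, add_zero]
  zero_mem' := by
    intro g _
    rw [map_zero, map_zero]
  smul_mem' := by
    intro c a ha g hg
    rw [map_smul, map_smul, ha g hg, smul_zero]

variable {V : Type w} [AddCommGroup V] [Module K V] [HopfRep.Comod K H V]

lemma slice_lTensor_eq_zero (F : Submodule K H) (g : H →ₗ[K] K) (hg : ∀ e ∈ F, g e = 0)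
    (s : V ⊗[K] F) : slice g (F.subtype.lTensor V s) = 0 := by
  induction s using TensorProduct.induction_on with
  | zero => simp
  | add s t hs ht => rw [map_add, map_add, hs, ht, add_zero]
  | tmul v e =>
    rw [LinearMap.lTensor_tmul, slice_tmul, Submodule.subtype_apply, hg e e.2, zero_smul]

lemma exists_mem_range_lTensor (E : ℕ → Submodule K H) (hmono : Monotone E)
    (hex : ∀ x : H, ∃ n, x ∈ E n) (t : V ⊗[K] H) :
    ∃ n, t ∈ LinearMap.range ((E n).subtype.lTensor V) := by
  have hle : ∀ {m n : ℕ}, m ≤ n → LinearMap.range ((E m).subtype.lTensor V) ≤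
      LinearMap.range ((E n).subtype.lTensor V) := by
    intro m n hmn
    rintro _ ⟨s, rfl⟩
    refine ⟨(Submodule.inclusion (hmono hmn)).lTensor V s, ?_⟩
    rw [← LinearMap.comp_apply, ← LinearMap.lTensor_comp]
    rfl
  induction t using TensorProduct.induction_on with
  | zero => exact ⟨0, Submodule.zero_mem _⟩
  | tmul v a =>
    obtain ⟨n, hn⟩ := hex a
    exact ⟨n, v ⊗ₜ[K] (⟨a, hn⟩ : E n), rfl⟩
  | add s t hs ht =>
    obtain ⟨n, hn⟩ := hs
    obtain ⟨m, hm⟩ := ht
    exact ⟨max n m, Submodule.add_mem _ (hle (le_max_left n m) hn) (hle (le_max_right n m) hm)⟩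

lemma conv_sub_apply_eq_zero (E : ℕ → Submodule K H)
    (hE : ∀ n, ∀ x ∈ E (n + 1), Coalgebra.comul (R := K) x - x ⊗ₜ[K] (1 : H) ∈
      LinearMap.range ((E n).subtype.rTensor H))
    (m : ℕ) (g l : H →ₗ[K] K) (hg : ∀ e ∈ E m, g e = 0) (x : H) (hx : x ∈ E (m + 1)) :
    (conv g l - l 1 • g) x = 0 := by
  obtain ⟨t, ht⟩ := hE m x hx
  have h1 : Coalgebra.comul (R := K) x = x ⊗ₜ[K] (1 : H) + (E m).subtype.rTensor H t := by
    rw [ht]; abel
  have h2 : ∀ t' : (E m) ⊗[K] H,
      (LinearMap.mul' K K ∘ₗ TensorProduct.map g l) ((E m).subtype.rTensor H t') = 0 := by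
    intro t'
    induction t' using TensorProduct.induction_on with
    | zero => simp
    | add s t hs ht => rw [map_add, map_add, hs, ht, add_zero]
    | tmul e b =>
      rw [LinearMap.rTensor_tmul, LinearMap.comp_apply, TensorProduct.map_tmul,
        Submodule.subtype_apply, hg e e.2, LinearMap.mul'_apply, zero_mul]
  have h3 : conv g l x = g x * l 1 := by
    show (LinearMap.mul' K K ∘ₗ TensorProduct.map g l) (Coalgebra.comul (R := K) x) = _
    rw [h1, map_add, h2 t, add_zero, LinearMap.comp_apply, TensorProduct.map_tmul,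
      LinearMap.mul'_apply]
  rw [LinearMap.sub_apply, LinearMap.smul_apply, h3, smul_eq_mul]
  ring

lemma slice_sub' {V : Type w} [AddCommGroup V] [Module K V] (f g : H →ₗ[K] K) (x : V ⊗[K] H) :
    slice (f - g) x = slice f x - slice g x := by
  simp [slice, LinearMap.lTensor_sub]

/-- a bialgebra over a field with an exhaustive unipotent filtration is unipotent -/
theorem isUnipotent_of_filtration (E : ℕ → Submodule K H) (h0 : E 0 = ⊥) (hmono : Monotone E)
    (hex : ∀ x : H, ∃ n, x ∈ E n)
    (hE : ∀ n, ∀ x ∈ E (n + 1), Coalgebra.comul (R := K) x - x ⊗ₜ[K] (1 : H) ∈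
      LinearMap.range ((E n).subtype.rTensor H)) :
    HopfRep.IsUnipotent K H := by
  classical
  intro V _ _ _ _ hnt
  -- the filtration of V
  have hV0 : coeffIn (E 0) V = ⊥ := by
    rw [eq_bot_iff]
    intro v hv
    have h1 := hv (Coalgebra.counit (R := K) (A := H)) (by
      intro e he
      rw [h0, Submodule.mem_bot] at he
      rw [he, map_zero])
    rw [slice_counit_coact] at h1
    rw [h1]
    exact Submodule.zero_mem _
  have hVex : ∀ v : V, ∃ n, v ∈ coeffIn (E n) V := by
    intro v
    obtain ⟨n, s, hs⟩ := exists_mem_range_lTensor E hmono hex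
      (HopfRep.Comod.coact (k := K) (A := H) v)
    refine ⟨n, fun g hg => ?_⟩
    rw [← hs]
    exact slice_lTensor_eq_zero (E n) g hg s
  obtain ⟨v, hv⟩ := exists_ne (0 : V)
  have hex2 : ∃ n, coeffIn (E n) V ≠ ⊥ := by
    obtain ⟨n, hn⟩ := hVex v
    refine ⟨n, fun h => hv ?_⟩
    rw [h, Submodule.mem_bot] at hn
    exact hn
  set n := Nat.find hex2 with hn
  have hn1 : coeffIn (E n) V ≠ ⊥ := Nat.find_spec hex2
  have hn0 : n ≠ 0 := by
    intro h
    rw [h] at hn1
    exact hn1 hV0
  obtain ⟨m, hm⟩ := Nat.exists_eq_succ_of_ne_zero hn0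
  have hVm : coeffIn (E m) V = ⊥ := by
    by_contra hne
    have := Nat.find_min' hex2 hne
    omega
  rw [hm] at hn1
  obtain ⟨w, hw, hw0⟩ := Submodule.exists_mem_ne_zero_of_ne_bot hn1
  -- `w` is a fixed vector
  have hfix : HopfRep.Comod.coact (k := K) (A := H) w = w ⊗ₜ[K] (1 : H) := by
    rw [← sub_eq_zero]
    apply eq_zero_of_slice_eq_zero
    intro l
    rw [map_sub, slice_tmul, sub_eq_zero]
    have hu : slice l (HopfRep.Comod.coact (k := K) (A := H) w) - l 1 • w ∈ coeffIn (E m) V := by
      intro g hg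
      rw [map_sub, map_sub, map_smul, map_smul, slice_coact_slice]
      have h1 := hw (conv g l - l 1 • g) (fun x hx => conv_sub_apply_eq_zero E hE m g l hg x hx)
      rw [slice_sub', slice_smul] at h1
      exact h1
    rw [hVm, Submodule.mem_bot] at hu
    exact sub_eq_zero.mp hu
  intro hbot
  have : w ∈ HopfRep.fixedPts K H V := hfix
  rw [hbot, Submodule.mem_bot] at this
  exact hw0 this

end

end Groth.Agent.Helper2.Unip
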