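import Mathlib
import Groth.Agent.Lib.Helper2.Unip.Filt
import Groth.Agent.Lib.Helper2.Unip.Coconn
import Groth.Agent.Lib.Helper2.Hopf.HopfSub
import Groth.Agent.Lib.Helper2.FF.Union
import Groth.Agent.Lib.Helper4.ConvHopf

/-!
# The coconnected part of a commutative Hopf algebra (helper2)

The union of the filtration `filt k A n` is a subalgebra `coconn k A`, a right coideal, and for a
cocommutative `A` a sub-Hopf-algebra which is unipotent.
-/

set_option autoImplicit false
open scoped TensorProduct

namespace Groth.Agent.Helper2.Unip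

universe u v

section tensor

variable {k : Type u} [Field k] {A : Type v} [CommRing A] [Algebra k A]

lemma tmul_mem_range_rTensor {F : Submodule k A} {a : A} (ha : a ∈ F) (b : A) :
    a ⊗ₜ[k] b ∈ LinearMap.range (F.subtype.rTensor A) :=
  ⟨(⟨a, ha⟩ : F) ⊗ₜ[k] b, rfl⟩

lemma map_mem_range_rTensor {F P : Submodule k A} (f g : A →ₗ[k] A) (hf : ∀ a ∈ F, f a ∈ P)
    {t : A ⊗[k] A} (ht : t ∈ LinearMap.range (F.subtype.rTensor A)) :
    TensorProduct.map f g t ∈ LinearMap.range (P.subtype.rTensor A) := by
  obtain ⟨s, rfl⟩ := ht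
  induction s using TensorProduct.induction_on with
  | zero => simp
  | tmul a b =>
    rw [LinearMap.rTensor_tmul, TensorProduct.map_tmul]
    exact tmul_mem_range_rTensor (hf _ a.2) _
  | add x y hx hy =>
    rw [map_add, map_add]
    exact Submodule.add_mem _ hx hy

lemma mul_mem_range_rTensor {F G P : Submodule k A} (h : ∀ a ∈ F, ∀ b ∈ G, a * b ∈ P)
    {s t : A ⊗[k] A} (hs : s ∈ LinearMap.range (F.subtype.rTensor A))
    (ht : t ∈ LinearMap.range (G.subtype.rTensor A)) :
    s * t ∈ LinearMap.range (P.subtype.rTensor A) := by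
  obtain ⟨s', rfl⟩ := hs
  obtain ⟨t', rfl⟩ := ht
  induction s' using TensorProduct.induction_on with
  | zero => simp
  | add x y hx hy =>
    rw [map_add, add_mul]
    exact Submodule.add_mem _ hx hy
  | tmul a b =>
    induction t' using TensorProduct.induction_on with
    | zero => simp
    | add x y hx hy =>
      rw [map_add, mul_add]
      exact Submodule.add_mem _ hx hy
    | tmul c d =>
      rw [LinearMap.rTensor_tmul, LinearMap.rTensor_tmul, Algebra.TensorProduct.tmul_mul_tmul]
      exact tmul_mem_range_rTensor (h _ a.2 _ c.2) _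

/-- `(W ⊗ A) ∩ (A ⊗ W) = W ⊗ W` over a field -/
lemma mem_range_map_subtype (W : Submodule k A) (t : A ⊗[k] A)
    (hL : t ∈ LinearMap.range (W.subtype.rTensor A))
    (hR : t ∈ LinearMap.range (W.subtype.lTensor A)) :
    t ∈ LinearMap.range (TensorProduct.map W.subtype W.subtype) := by
  obtain ⟨P, hP⟩ := LinearMap.exists_leftInverse_of_injective W.subtype (Submodule.ker_subtype W)
  let e : A →ₗ[k] A := W.subtype ∘ₗ P
  have he : e ∘ₗ W.subtype = W.subtype := by
    rw [LinearMap.comp_assoc, hP, LinearMap.comp_id]
  have h1 : TensorProduct.map e LinearMap.id t = t := by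
    obtain ⟨s, rfl⟩ := hL
    rw [LinearMap.rTensor, ← LinearMap.comp_apply, ← TensorProduct.map_comp, he,
      LinearMap.id_comp]
  have h2 : TensorProduct.map LinearMap.id e t = t := by
    obtain ⟨s, rfl⟩ := hR
    rw [LinearMap.lTensor, ← LinearMap.comp_apply, ← TensorProduct.map_comp, he,
      LinearMap.id_comp]
  have h3 : TensorProduct.map e e t = t := by
    have : TensorProduct.map e e =
        TensorProduct.map e LinearMap.id ∘ₗ TensorProduct.map LinearMap.id e := by
      rw [← TensorProduct.map_comp, LinearMap.comp_id, LinearMap.id_comp]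
    rw [this, LinearMap.comp_apply, h2, h1]
  refine ⟨TensorProduct.map P P t, ?_⟩
  rw [← LinearMap.comp_apply, ← TensorProduct.map_comp]
  exact h3

end tensor

section filt

variable {k : Type u} [Field k] {A : Type v} [CommRing A] [HopfAlgebra k A]

/-- each step of the filtration is a right coideal -/
lemma comul_mem_range_filt {n : ℕ} {x : A} (hx : x ∈ filt k A n) :
    Coalgebra.comul (R := k) x ∈ LinearMap.range ((filt k A n).subtype.rTensor A) := by
  cases n with
  | zero =>
    rw [filt_zero, Submodule.mem_bot] at hx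
    rw [hx, map_zero]
    exact Submodule.zero_mem _
  | succ n =>
    have h1 := range_rTensor_mono (filt_mono_succ (k := k) (A := A) n) (mem_filt_succ.mp hx)
    have h2 := tmul_mem_range_rTensor hx (1 : A)
    have := Submodule.add_mem _ h1 h2
    rwa [sub_add_cancel] at this

lemma mem_filt_one_iff {x : A} :
    x ∈ filt k A 1 ↔ Coalgebra.comul (R := k) x = x ⊗ₜ[k] (1 : A) := by
  rw [mem_filt_succ, filt_zero]
  constructor
  · intro h
    have := Groth.Agent.Helper9.eq_zero_of_mem_range_rTensor_bot (k := k) (C := A) (V := A) _ h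
    exact sub_eq_zero.mp this
  · intro h
    rw [h, sub_self]
    exact Submodule.zero_mem _

lemma algebraMap_mem_filt_one (c : k) : algebraMap k A c ∈ filt k A 1 := by
  rw [mem_filt_one_iff, Bialgebra.comul_algebraMap, Algebra.algebraMap_eq_smul_one,
    Algebra.algebraMap_eq_smul_one, Algebra.TensorProduct.one_def, TensorProduct.smul_tmul']

lemma eq_algebraMap_of_mem_filt_one {x : A} (hx : x ∈ filt k A 1) :
    x = algebraMap k A (Coalgebra.counit (R := k) x) := by
  rw [mem_filt_one_iff] at hx
  have h := Coalgebra.rTensor_counit_comul (R := k) x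
  rw [hx, LinearMap.rTensor_tmul] at h
  have h2 := congrArg (TensorProduct.lid k A) h
  rw [TensorProduct.lid_tmul, TensorProduct.lid_tmul, one_smul] at h2
  rw [Algebra.algebraMap_eq_smul_one]
  exact h2.symm

/-- the filtration is multiplicative -/
lemma mul_mem_filt : ∀ (s m n : ℕ), m + n = s → ∀ {x y : A}, x ∈ filt k A m → y ∈ filt k A n →
    x * y ∈ filt k A (m + n) := by
  intro s
  induction s using Nat.strong_induction_on with
  | _ s ih =>
    intro m n hmn x y hx hy
    cases m with
    | zero =>
      rw [filt_zero, Submodule.mem_bot] at hx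
      rw [hx, zero_mul]
      exact Submodule.zero_mem _
    | succ m =>
      cases n with
      | zero =>
        rw [filt_zero, Submodule.mem_bot] at hy
        rw [hy, mul_zero]
        exact Submodule.zero_mem _
      | succ n =>
        have hidx : m + 1 + (n + 1) = (m + n + 1) + 1 := by omega
        rw [hidx, mem_filt_succ]
        have e : Coalgebra.comul (R := k) (x * y) - (x * y) ⊗ₜ[k] (1 : A) =
            (Coalgebra.comul (R := k) x - x ⊗ₜ[k] (1 : A)) * Coalgebra.comul (R := k) y +
              (x ⊗ₜ[k] (1 : A)) * (Coalgebra.comul (R := k) y - y ⊗ₜ[k] (1 : A)) := by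
          rw [Bialgebra.comul_mul, sub_mul, mul_sub, Algebra.TensorProduct.tmul_mul_tmul, mul_one]
          abel
        rw [e]
        apply Submodule.add_mem
        · have h1 : ∀ a ∈ filt k A m, ∀ b ∈ filt k A (n + 1), a * b ∈ filt k A (m + n + 1) := by
            intro a ha b hb
            have := ih (m + (n + 1)) (by omega) m (n + 1) rfl ha hb
            rwa [← add_assoc] at this
          exact mul_mem_range_rTensor h1 (mem_filt_succ.mp hx) (comul_mem_range_filt hy)
        · have h1 : ∀ a ∈ filt k A (m + 1), ∀ b ∈ filt k A n, a * b ∈ filt k A (m + n + 1) := by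
            intro a ha b hb
            have := ih (m + 1 + n) (by omega) (m + 1) n rfl ha hb
            have e2 : m + 1 + n = m + n + 1 := by omega
            rwa [e2] at this
          exact mul_mem_range_rTensor h1 (tmul_mem_range_rTensor hx 1) (mem_filt_succ.mp hy)

variable (k A) in
/-- the coconnected part of `A`: the union of the filtration -/
def coconn : Subalgebra k A where
  carrier := {x | ∃ n, x ∈ filt k A n}
  mul_mem' := by
    rintro x y ⟨m, hm⟩ ⟨n, hn⟩
    exact ⟨m + n, mul_mem_filt (m + n) m n rfl hm hn⟩
  add_mem' := by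
    rintro x y ⟨m, hm⟩ ⟨n, hn⟩
    exact ⟨max m n, Submodule.add_mem _ (filt_mono (le_max_left m n) hm)
      (filt_mono (le_max_right m n) hn)⟩
  algebraMap_mem' := fun c => ⟨1, algebraMap_mem_filt_one c⟩

lemma mem_coconn {x : A} : x ∈ coconn k A ↔ ∃ n, x ∈ filt k A n := Iff.rfl

lemma filt_le_coconn (n : ℕ) : filt k A n ≤ Subalgebra.toSubmodule (coconn k A) :=
  fun _ hx => ⟨n, hx⟩

/-- if `A` has no nonzero primitive elements, the filtration is stationary from step one -/
lemma filt_le_one_of_noPrim
    (hprim : ∀ y : A, Coalgebra.comul (R := k) y = y ⊗ₜ[k] 1 + 1 ⊗ₜ[k] y → y = 0) (n : ℕ) :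
    filt k A n ≤ filt k A 1 := by
  induction n with
  | zero => rw [filt_zero]; exact bot_le
  | succ n ih =>
    intro x hx
    have h1 := range_rTensor_mono ih (mem_filt_succ.mp hx)
    -- `Δ x - x ⊗ 1 = 1 ⊗ y`
    obtain ⟨t, ht⟩ := h1
    have h2 : ∃ y : A, Coalgebra.comul (R := k) x - x ⊗ₜ[k] (1 : A) = (1 : A) ⊗ₜ[k] y := by
      rw [← ht]
      clear ht
      induction t using TensorProduct.induction_on with
      | zero => exact ⟨0, by simp⟩
      | tmul a b =>
        refine ⟨Coalgebra.counit (R := k) (a : A) • b, ?_⟩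
        rw [LinearMap.rTensor_tmul, Submodule.subtype_apply]
        conv_lhs => rw [eq_algebraMap_of_mem_filt_one a.2, Algebra.algebraMap_eq_smul_one]
        rw [TensorProduct.smul_tmul]
      | add s t hs ht =>
        obtain ⟨y1, h1⟩ := hs
        obtain ⟨y2, h2⟩ := ht
        exact ⟨y1 + y2, by rw [map_add, h1, h2, TensorProduct.tmul_add]⟩
    obtain ⟨y, hy⟩ := h2
    -- applying `ε ⊗ id` : `x - ε(x) = y`
    have h3 : y = x - algebraMap k A (Coalgebra.counit (R := k) x) := by
      have := congrArg (fun z => TensorProduct.lid k A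
        ((Coalgebra.counit (R := k) (A := A)).rTensor A z)) hy
      simp only [map_sub, Coalgebra.rTensor_counit_comul, LinearMap.rTensor_tmul,
        TensorProduct.lid_tmul, one_smul, Bialgebra.counit_one] at this
      rw [← this, Algebra.algebraMap_eq_smul_one]
    -- so `y` is primitive
    set c := Coalgebra.counit (R := k) x with hc
    have h4 : y = 0 := by
      apply hprim
      have hx' : Coalgebra.comul (R := k) x = x ⊗ₜ[k] (1 : A) + (1 : A) ⊗ₜ[k] y :=
        sub_eq_iff_eq_add'.mp hy
      rw [h3, map_sub, Bialgebra.comul_algebraMap, hx', ← h3]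
      have e1 : x = y + algebraMap k A c := by rw [h3]; ring
      conv_lhs => rw [e1]
      rw [TensorProduct.add_tmul, Algebra.algebraMap_eq_smul_one,
        Algebra.algebraMap_eq_smul_one (A := A ⊗[k] A), Algebra.TensorProduct.one_def,
        TensorProduct.smul_tmul']
      abel
    rw [h4] at h3
    have h5 : x = algebraMap k A c := (sub_eq_zero.mp h3.symm)
    rw [h5]
    exact algebraMap_mem_filt_one c

end filt

section cocomm

variable {k : Type u} [Field k] {A : Type v} [CommRing A] [HopfAlgebra k A]
  [Coalgebra.IsCocomm k A]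

lemma comul_mem_range_lTensor_filt {n : ℕ} {x : A} (hx : x ∈ filt k A n) :
    Coalgebra.comul (R := k) x ∈ LinearMap.range ((filt k A n).subtype.lTensor A) := by
  obtain ⟨t, ht⟩ := comul_mem_range_filt hx
  refine ⟨TensorProduct.comm k _ _ t, ?_⟩
  have h1 : (filt k A n).subtype.lTensor A (TensorProduct.comm k _ _ t) =
      TensorProduct.comm k A A ((filt k A n).subtype.rTensor A t) := by
    clear ht
    induction t using TensorProduct.induction_on with
    | zero => simp
    | tmul a b => simp
    | add s t hs ht => simp only [map_add, hs, ht]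
  rw [h1, ht]
  exact Coalgebra.comm_comul (R := k) x

lemma antipode_mem_filt {n : ℕ} : ∀ {x : A}, x ∈ filt k A n →
    HopfAlgebra.antipode k x ∈ filt k A n := by
  induction n with
  | zero =>
    intro x hx
    rw [filt_zero, Submodule.mem_bot] at hx
    rw [hx, map_zero]
    exact Submodule.zero_mem _
  | succ n ih =>
    intro x hx
    rw [mem_filt_succ]
    have h1 := LinearMap.congr_fun
      (Groth.Agent.Helper4.Conv.comul_comp_antipode (k := k) (A := A)) x
    simp only [LinearMap.comp_apply, LinearEquiv.coe_coe] at h1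
    have h2 : TensorProduct.comm k A A (TensorProduct.map (HopfAlgebra.antipode k)
        (HopfAlgebra.antipode k) (Coalgebra.comul (R := k) x)) =
        TensorProduct.map (HopfAlgebra.antipode k) (HopfAlgebra.antipode k)
          (Coalgebra.comul (R := k) x) := by
      conv_rhs => rw [← Coalgebra.comm_comul (R := k) x]
      generalize Coalgebra.comul (R := k) x = t
      induction t using TensorProduct.induction_on with
      | zero => simp
      | tmul a b => simp
      | add s t hs ht => simp only [map_add, hs, ht]
    rw [h1, h2]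
    have h3 : HopfAlgebra.antipode k x ⊗ₜ[k] (1 : A) =
        TensorProduct.map (HopfAlgebra.antipode k) (HopfAlgebra.antipode k)
          (x ⊗ₜ[k] (1 : A)) := by
      rw [TensorProduct.map_tmul, HopfAlgebra.antipode_one]
    rw [h3, ← map_sub]
    exact map_mem_range_rTensor _ _ (fun a ha => ih ha) (mem_filt_succ.mp hx)

open Groth.Agent.Helper2.FF in
/-- for a cocommutative `A` the coconnected part is a sub-Hopf-algebra -/
theorem HS_coconn : HS (coconn k A) := by
  constructor
  · rintro b ⟨n, hn⟩
    obtain ⟨t, ht⟩ := mem_range_map_subtype (filt k A n) _ (comul_mem_range_filt hn)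
      (comul_mem_range_lTensor_filt hn)
    let j : filt k A n →ₗ[k] coconn k A :=
      { toFun := fun a => ⟨a.1, ⟨n, a.2⟩⟩
        map_add' := fun _ _ => rfl
        map_smul' := fun _ _ => rfl }
    refine ⟨TensorProduct.map j j t, ?_⟩
    rw [← ht]
    clear ht
    induction t using TensorProduct.induction_on with
    | zero => simp
    | tmul a b => rfl
    | add s t hs ht => simp only [map_add, hs, ht]
  · rintro b ⟨n, hn⟩
    exact ⟨n, antipode_mem_filt hn⟩

end cocomm

end Groth.Agent.Helper2.Unip
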