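import Mathlib
import Groth.Agent.Lib.Helper2.Unip.CoconnPart
import Groth.Agent.Lib.Helper9.CocommSimple
import Groth.Agent.Lib.Helper9.Comod2
import Groth.Agent.Lib.Helper9.Comod3
import Groth.Agent.Lib.Helper9.Comod4
import Groth.Agent.Lib.Helper9.Comod5

/-!
# Commutative cocommutative Hopf algebras over an algebraically closed field are pointed (helper2)

`H = Σ_g g · H¹`, the sum over the group-like elements `g` of the translates of the coconnected
part.
-/

set_option autoImplicit false
open scoped TensorProduct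

namespace Groth.Agent.Helper2.Pointed

open Groth.Agent.Helper9 Groth.Agent.Helper9.CocommSimple Groth.Agent.Helper2.Unip

universe u v

section twisted

variable {K : Type u} [Field K] {H : Type v} [CommRing H] [HopfAlgebra K H]

/-- the filtration twisted by `g` -/
noncomputable def filtG (g : H) : ℕ → Submodule K H
  | 0 => ⊥
  | n + 1 => (LinearMap.range ((filtG g n).subtype.rTensor H)).comap
      (Coalgebra.comul (R := K) (A := H) - (TensorProduct.mk K H H).flip g)

lemma filtG_zero (g : H) : filtG (K := K) g 0 = ⊥ := rfl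

lemma mem_filtG_succ {g : H} {n : ℕ} {x : H} :
    x ∈ filtG (K := K) g (n + 1) ↔ Coalgebra.comul (R := K) x - x ⊗ₜ[K] g ∈
      LinearMap.range ((filtG (K := K) g n).subtype.rTensor H) := Iff.rfl

lemma filtG_mono_succ (g : H) (n : ℕ) : filtG (K := K) g n ≤ filtG g (n + 1) := by
  induction n with
  | zero => rw [filtG_zero]; exact bot_le
  | succ n ih =>
    intro x hx
    rw [mem_filtG_succ] at hx ⊢
    exact range_rTensor_mono ih hx

lemma filtG_mono (g : H) : Monotone (filtG (K := K) g) :=
  monotone_nat_of_le_succ (filtG_mono_succ g)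

lemma comul_mem_range_filtG {g : H} {n : ℕ} {x : H} (hx : x ∈ filtG (K := K) g n) :
    Coalgebra.comul (R := K) x ∈ LinearMap.range ((filtG (K := K) g n).subtype.rTensor H) := by
  cases n with
  | zero =>
    rw [filtG_zero, Submodule.mem_bot] at hx
    rw [hx, map_zero]
    exact Submodule.zero_mem _
  | succ n =>
    have h1 := range_rTensor_mono (filtG_mono_succ (K := K) g n) (mem_filtG_succ.mp hx)
    have h2 := tmul_mem_range_rTensor hx g
    have := Submodule.add_mem _ h1 h2
    rwa [sub_add_cancel] at this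

lemma isSubcomod_filtG (g : H) (n : ℕ) :
    HopfRep.IsSubcomod (k := K) (A := H) (filtG (K := K) g n) :=
  fun _ hx => comul_mem_range_filtG hx

/-- the union of the twisted filtration -/
noncomputable def coconnG (g : H) : Submodule K H := ⨆ n, filtG (K := K) g n

lemma mem_coconnG {g : H} {x : H} : x ∈ coconnG (K := K) g ↔ ∃ n, x ∈ filtG (K := K) g n :=
  Submodule.mem_iSup_of_directed _ (filtG_mono g).directed_le

lemma isSubcomod_coconnG (g : H) : HopfRep.IsSubcomod (k := K) (A := H) (coconnG (K := K) g) :=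
  isSubcomod_iSup _ (isSubcomod_filtG g)

/-- a finite-dimensional subspace of the union lies in one step -/
lemma exists_le_filtG {g : H} (Y : Submodule K H) (hfin : Y.FG) (hY : Y ≤ coconnG (K := K) g) :
    ∃ n, Y ≤ filtG (K := K) g n := by
  have hc := (Submodule.fg_iff_compact Y).mp hfin
  rw [CompleteLattice.isCompactElement_iff_le_of_directed_sSup_le] at hc
  obtain ⟨_, ⟨n, rfl⟩, hn⟩ := hc (Set.range (filtG (K := K) g)) ⟨_, ⟨0, rfl⟩⟩
    (by
      rintro _ ⟨m, rfl⟩ _ ⟨n, rfl⟩
      exact ⟨_, ⟨max m n, rfl⟩, filtG_mono g (le_max_left m n), filtG_mono g (le_max_right m n)⟩)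
    hY
  exact ⟨n, hn⟩

/-- untwisting -/
lemma antipode_mul_mem_filt {g : H} (hg : IsGroupLikeElem K g) {n : ℕ} :
    ∀ {x : H}, x ∈ filtG (K := K) g n → HopfAlgebra.antipode K g * x ∈ filt K H n := by
  induction n with
  | zero =>
    intro x hx
    rw [filtG_zero, Submodule.mem_bot] at hx
    rw [hx, mul_zero]
    exact Submodule.zero_mem _
  | succ n ih =>
    intro x hx
    rw [mem_filt_succ]
    set a := HopfAlgebra.antipode K g with ha
    have hag : IsGroupLikeElem K a := hg.antipode
    have e : Coalgebra.comul (R := K) (a * x) - (a * x) ⊗ₜ[K] (1 : H) =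
        (a ⊗ₜ[K] a) * (Coalgebra.comul (R := K) x - x ⊗ₜ[K] g) := by
      rw [Bialgebra.comul_mul, hag.comul_eq_tmul_self, mul_sub,
        Algebra.TensorProduct.tmul_mul_tmul, hg.antipode_mul_cancel]
    rw [e]
    refine mul_mem_range_rTensor (F := Submodule.span K {a}) ?_
      (tmul_mem_range_rTensor (Submodule.mem_span_singleton_self a) a) (mem_filtG_succ.mp hx)
    intro c hc b hb
    obtain ⟨r, rfl⟩ := Submodule.mem_span_singleton.mp hc
    rw [smul_mul_assoc]
    exact Submodule.smul_mem _ _ (ih hb)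

end twisted

section general

variable {K : Type u} [Field K] {V : Type*} [AddCommGroup V] [Module K V]
  {V' : Type*} [AddCommGroup V'] [Module K V']

lemma pow_intertwine (φ : V →ₗ[K] V') (A : Module.End K V) (B : Module.End K V')
    (h : ∀ v, φ (A v) = B (φ v)) (N : ℕ) (v : V) : φ ((A ^ N) v) = (B ^ N) (φ v) := by
  induction N generalizing v with
  | zero => simp
  | succ N ih => rw [pow_succ, pow_succ, Module.End.mul_apply, Module.End.mul_apply, ih, h]

lemma pow_apply_of_apply_eq_smul (A : Module.End K V) (μ : K) (v : V) (h : A v = μ • v) (N : ℕ) :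
    (A ^ N) v = μ ^ N • v := by
  induction N with
  | zero => simp
  | succ N ih => rw [pow_succ, Module.End.mul_apply, h, map_smul, ih, smul_smul, pow_succ, mul_comm]

end general

section eigen

variable {K : Type u} [Field K] {C : Type v} [AddCommGroup C] [Module K C] [Coalgebra K C]
variable {V : Type v} [AddCommGroup V] [Module K V] [HopfRep.Comod K C V]

/-- the coefficient of a nonzero eigenvector is group-like -/
lemma isGroupLikeElem_of_coact_eq {v : V} (hv : v ≠ 0) {a : C}
    (h : HopfRep.Comod.coact (k := K) (A := C) v = v ⊗ₜ[K] a) : IsGroupLikeElem K a := by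
  have hinj : LinearMap.ker (LinearMap.toSpanSingleton K V v) = ⊥ := by
    rw [LinearMap.ker_eq_bot]
    intro a b hab
    exact smul_left_injective K hv hab
  obtain ⟨φ, hφ⟩ := LinearMap.exists_leftInverse_of_injective _ hinj
  have hφv : φ v = 1 := by
    have := LinearMap.congr_fun hφ 1
    simpa using this
  constructor
  · have h1 := slice_counit_coact (k := K) (C := C) v
    rw [h, slice_tmul] at h1
    have h2 : (Coalgebra.counit (R := K) a - 1) • v = 0 := by rw [sub_smul, h1, one_smul, sub_self]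
    rcases smul_eq_zero.mp h2 with h3 | h3
    · exact sub_eq_zero.mp h3
    · exact absurd h3 hv
  · have hco := LinearMap.congr_fun (HopfRep.Comod.coassoc (k := K) (A := C) (V := V)) v
    simp only [LinearMap.comp_apply, LinearEquiv.coe_coe] at hco
    rw [h, LinearMap.rTensor_tmul, h, TensorProduct.assoc_tmul, LinearMap.lTensor_tmul] at hco
    have h2 := congrArg (fun z => TensorProduct.lid K (C ⊗[K] C) (φ.rTensor (C ⊗[K] C) z)) hco
    simp only [LinearMap.rTensor_tmul, TensorProduct.lid_tmul, hφv, one_smul] at h2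
    exact h2.symm

variable [IsAlgClosed K] [Coalgebra.IsCocomm K C]

/-- a nonzero finite-dimensional subcomodule contains an eigenvector -/
lemma exists_eigenvector (W : Submodule K V) (hW : HopfRep.IsSubcomod (k := K) (A := C) W)
    [Module.Finite K W] (hne : W ≠ ⊥) :
    ∃ v ∈ W, v ≠ 0 ∧ ∃ a : C, HopfRep.Comod.coact (k := K) (A := C) v = v ⊗ₜ[K] a := by
  obtain ⟨S, hS, hSW⟩ := exists_isSimpleSub_le (C := C) W hW hne
  letI := subComod S hS.1
  haveI : Module.Finite K S := Module.Finite.of_injective (Submodule.inclusion hSW)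
    (Submodule.inclusion_injective hSW)
  have hs := isSimpleComod_of_isSimpleSub S hS
  haveI : Nontrivial S := hs.1
  obtain ⟨v, hv⟩ := exists_ne (0 : S)
  obtain ⟨a, ha⟩ := exists_coact_eq_tmul_of_isSimpleComod hs v
  refine ⟨v, hSW v.2, fun h => hv (Subtype.ext h), a, ?_⟩
  have h1 := subtype_rTensor_subCoact S hS.1 v
  rw [← h1]
  have h2 : subCoact S hS.1 v = v ⊗ₜ[K] a := ha
  rw [h2, LinearMap.rTensor_tmul]
  rfl

end eigen

section main

variable {K : Type u} [Field K] [IsAlgClosed K] {H : Type v} [CommRing H] [HopfAlgebra K H]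
  [Coalgebra.IsCocomm K H]

lemma T_eigen {V : Type*} [AddCommGroup V] [Module K V] [HopfRep.Comod K H V] {v : V} {a : H}
    (h : HopfRep.Comod.coact (k := K) (A := H) v = v ⊗ₜ[K] a) (f : H →ₗ[K] K) :
    T (V := V) f v = f a • v := by
  rw [T_apply, h, slice_tmul]

/-- the character of a generalized simultaneous eigenspace is evaluation at a group-like
element -/
theorem exists_groupLike_of_genEigen (Y : Submodule K H) [Module.Finite K Y]
    (hY : HopfRep.IsSubcomod (k := K) (A := H) Y) (hne : Y ≠ ⊥) (χ : (H →ₗ[K] K) → K)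
    (hχ : ∀ (f : H →ₗ[K] K), ∀ y ∈ Y, ∃ N : ℕ,
      ((T (V := H) f - χ f • (1 : Module.End K H)) ^ N) y = 0) :
    ∃ g : H, IsGroupLikeElem K g ∧ ∀ f : H →ₗ[K] K, χ f = f g := by
  obtain ⟨v, hvY, hv0, a, hva⟩ := exists_eigenvector (C := H) Y hY hne
  refine ⟨a, isGroupLikeElem_of_coact_eq hv0 hva, fun f => ?_⟩
  obtain ⟨N, hN⟩ := hχ f v hvY
  have h1 : (T (V := H) f - χ f • (1 : Module.End K H)) v = (f a - χ f) • v := by
    rw [LinearMap.sub_apply, T_eigen hva, LinearMap.smul_apply, Module.End.one_apply, sub_smul]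
  rw [pow_apply_of_apply_eq_smul _ _ _ h1] at hN
  rcases smul_eq_zero.mp hN with h2 | h2
  · exact (sub_eq_zero.mp (eq_zero_of_pow_eq_zero h2)).symm
  · exact absurd h2 hv0

/-- a finite-dimensional subcomodule on which all functionals act with generalized eigenvalue
given by `g` lies in `g · H¹` -/
theorem le_coconnG_of_genEigen (Y : Submodule K H) [Module.Finite K Y]
    (hY : HopfRep.IsSubcomod (k := K) (A := H) Y) (g : H)
    (hχ : ∀ (f : H →ₗ[K] K), ∀ y ∈ Y, ∃ N : ℕ,
      ((T (V := H) f - f g • (1 : Module.End K H)) ^ N) y = 0) :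
    Y ≤ coconnG (K := K) g := by
  by_contra hnot
  obtain ⟨y₁, hy₁Y, hy₁⟩ := SetLike.not_le_iff_exists.mp hnot
  set Y' : Submodule K H := Y ⊓ coconnG (K := K) g with hY'def
  have hY' : HopfRep.IsSubcomod (k := K) (A := H) Y' := isSubcomod_inf _ _ hY (isSubcomod_coconnG g)
  letI := quotComod Y' hY'
  set π : H →ₗ[K] H ⧸ Y' := Y'.mkQ with hπdef
  have hπ : Hoch.IsComodHom H π := quotCoact_comp_mkQ Y' hY'
  have hYbar : HopfRep.IsSubcomod (k := K) (A := H) (Y.map π) := isSubcomod_map π hπ Y hY
  have hne : Y.map π ≠ ⊥ := by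
    intro h
    have h1 : π y₁ ∈ Y.map π := ⟨y₁, hy₁Y, rfl⟩
    rw [h, Submodule.mem_bot] at h1
    have h2 : y₁ ∈ Y' := by
      have := (Submodule.Quotient.mk_eq_zero Y').mp h1
      exact this
    exact hy₁ h2.2
  obtain ⟨q, hqY, hq0, a, hqa⟩ := exists_eigenvector (C := H) (Y.map π) hYbar hne
  obtain ⟨y₀, hy₀, rfl⟩ := hqY
  -- `a = g`
  have hag : a = g := by
    rw [← sub_eq_zero, ← Module.forall_dual_apply_eq_zero_iff K]
    intro f
    rw [map_sub, sub_eq_zero]
    obtain ⟨N, hN⟩ := hχ f y₀ hy₀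
    have h1 := pow_intertwine π (T (V := H) f - f g • (1 : Module.End K H))
      (T (V := H ⧸ Y') f - f g • (1 : Module.End K (H ⧸ Y'))) (by
        intro v
        rw [LinearMap.sub_apply, LinearMap.sub_apply, map_sub, LinearMap.smul_apply,
          LinearMap.smul_apply, Module.End.one_apply, Module.End.one_apply, map_smul, T_apply,
          T_apply, (isComodHom_iff π).mp hπ, slice_rTensor]) N y₀
    rw [hN, map_zero] at h1
    have h2 : (T (V := H ⧸ Y') f - f g • (1 : Module.End K (H ⧸ Y'))) (π y₀) =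
        (f a - f g) • π y₀ := by
      rw [LinearMap.sub_apply, T_eigen hqa, LinearMap.smul_apply, Module.End.one_apply, sub_smul]
    rw [pow_apply_of_apply_eq_smul _ _ _ h2] at h1
    rcases smul_eq_zero.mp h1.symm with h3 | h3
    · exact sub_eq_zero.mp (eq_zero_of_pow_eq_zero h3)
    · exact absurd h3 hq0
  subst hag
  -- `Δ y₀ - y₀ ⊗ a ∈ Y' ⊗ H`
  have h3 : Coalgebra.comul (R := K) y₀ - y₀ ⊗ₜ[K] a ∈ LinearMap.range (Y'.subtype.rTensor H) := by
    rw [← rTensor_mkQ, LinearMap.mem_ker, map_sub, LinearMap.rTensor_tmul, sub_eq_zero]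
    exact (quotComod_coact_mk Y' hY' y₀).symm.trans hqa
  have hfg : Y'.FG := by
    haveI : Module.Finite K Y' := Module.Finite.of_injective
      (Submodule.inclusion (inf_le_left : Y' ≤ Y)) (Submodule.inclusion_injective _)
    exact Module.Finite.iff_fg.mp inferInstance
  obtain ⟨n, hn⟩ := exists_le_filtG Y' hfg inf_le_right
  have h4 : y₀ ∈ filtG (K := K) a (n + 1) := mem_filtG_succ.mpr (range_rTensor_mono hn h3)
  have h5 : y₀ ∈ Y' := ⟨hy₀, mem_coconnG.mpr ⟨n + 1, h4⟩⟩
  exact hq0 ((Submodule.Quotient.mk_eq_zero Y').mpr h5)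

/-- every element is a sum of products of group-like elements with elements of the coconnected
part -/
theorem mem_span_groupLike_mul_coconn (x : H) :
    x ∈ Submodule.span K {z : H | ∃ g y : H, IsGroupLikeElem K g ∧ y ∈ coconn K H ∧ z = g * y} := by
  classical
  obtain ⟨W, hWfin, hxW, hW⟩ := exists_finite_subcomod_mem (k := K) (C := H) (V := H) x
  have hst : ∀ (f : H →ₗ[K] K), ∀ w ∈ W, T (V := H) f w ∈ W := fun f w hw =>
    slice_mem_of_mem_range_rTensor_subtype W _ (hW w hw) f
  let Tw : (H →ₗ[K] K) → Module.End K W := fun f => (T (V := H) f).restrict (hst f)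
  have hTw : ∀ f (w : W), ((Tw f w : W) : H) = T (V := H) f (w : H) := fun f w => rfl
  have hcomm : Pairwise fun f₁ f₂ => Commute (Tw f₁) (Tw f₂) := by
    intro f₁ f₂ _
    apply LinearMap.ext
    intro w
    apply Subtype.ext
    show ((Tw f₁ (Tw f₂ w) : W) : H) = ((Tw f₂ (Tw f₁ w) : W) : H)
    rw [hTw, hTw, hTw, hTw, T_comm]
  have hdec := Module.End.iSup_iInf_maxGenEigenspace_eq_top_of_iSup_maxGenEigenspace_eq_top_of_commute
    Tw hcomm (fun f => Module.End.iSup_maxGenEigenspace_eq_top (Tw f))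
  have hxtop : (⟨x, hxW⟩ : W) ∈ ⨆ χ : (H →ₗ[K] K) → K, ⨅ f, (Tw f).maxGenEigenspace (χ f) := by
    rw [hdec]
    trivial
  suffices hmot : ∀ w : W, w ∈ (⨆ χ : (H →ₗ[K] K) → K, ⨅ f, (Tw f).maxGenEigenspace (χ f)) →
      (w : H) ∈ Submodule.span K
        {z : H | ∃ g y : H, IsGroupLikeElem K g ∧ y ∈ coconn K H ∧ z = g * y} from
    hmot _ hxtop
  intro w hw
  refine Submodule.iSup_induction _ (motive := fun w : W => (w : H) ∈ Submodule.span K
      {z : H | ∃ g y : H, IsGroupLikeElem K g ∧ y ∈ coconn K H ∧ z = g * y}) hw ?_ ?_ ?_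
  · intro χ w hwχ
    set Wχ : Submodule K W := ⨅ f, (Tw f).maxGenEigenspace (χ f) with hWχ
    set Y : Submodule K H := Wχ.map W.subtype with hYdef
    by_cases hbot : Y = ⊥
    · have : (w : H) ∈ Y := ⟨w, hwχ, rfl⟩
      rw [hbot, Submodule.mem_bot] at this
      rw [this]
      exact Submodule.zero_mem _
    -- stability of `Wχ`
    have hWχst : ∀ (f : H →ₗ[K] K), ∀ w' ∈ Wχ, Tw f w' ∈ Wχ := by
      intro f w' hw'
      rw [hWχ, Submodule.mem_iInf] at hw' ⊢
      intro f'
      have hc : Commute (Tw f') (Tw f) := by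
        by_cases hff : f' = f
        · rw [hff]
        · exact hcomm hff
      exact Module.End.mapsTo_maxGenEigenspace_of_comm hc (χ f') (hw' f')
    have hYsub : HopfRep.IsSubcomod (k := K) (A := H) Y := by
      rintro _ ⟨w', hw', rfl⟩
      apply mem_range_rTensor_subtype_of_slice_mem
      intro f
      exact ⟨Tw f w', hWχst f w' hw', rfl⟩
    have hχ : ∀ (f : H →ₗ[K] K), ∀ y ∈ Y, ∃ N : ℕ,
        ((T (V := H) f - χ f • (1 : Module.End K H)) ^ N) y = 0 := by
      rintro f _ ⟨w', hw', rfl⟩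
      have hw'' := (Submodule.mem_iInf _).mp hw'
      obtain ⟨N, hN⟩ := (Module.End.mem_maxGenEigenspace _ _ _).mp (hw'' f)
      refine ⟨N, ?_⟩
      have h1 := pow_intertwine W.subtype (Tw f - χ f • (1 : Module.End K W))
        (T (V := H) f - χ f • (1 : Module.End K H)) (by
          intro v
          rfl) N w'
      rw [hN, map_zero] at h1
      exact h1.symm
    obtain ⟨g, hg, hgχ⟩ := exists_groupLike_of_genEigen Y hYsub hbot χ hχ
    have hχ' : ∀ (f : H →ₗ[K] K), ∀ y ∈ Y, ∃ N : ℕ,
        ((T (V := H) f - f g • (1 : Module.End K H)) ^ N) y = 0 := by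
      intro f y hy
      rw [← hgχ f]
      exact hχ f y hy
    have hle := le_coconnG_of_genEigen Y hYsub g hχ'
    have hwY : (w : H) ∈ Y := ⟨w, hwχ, rfl⟩
    obtain ⟨n, hn⟩ := mem_coconnG.mp (hle hwY)
    apply Submodule.subset_span
    refine ⟨g, HopfAlgebra.antipode K g * (w : H), hg, ⟨n, antipode_mul_mem_filt hg hn⟩, ?_⟩
    rw [← mul_assoc, hg.mul_antipode_cancel, one_mul]
  · exact Submodule.zero_mem _
  · intro a b ha hb
    exact Submodule.add_mem _ ha hb

end main

end Groth.Agent.Helper2.Pointed
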