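import Mathlib

/-!
# Bialgebras with a basis of group-like elements have no primitive elements (helper2)
-/

set_option autoImplicit false
open scoped TensorProduct

namespace Groth.Agent.Helper2.Unip

universe u v w

section basis

variable {R : Type u} [CommRing R] {H : Type v} [Ring H] [Bialgebra R H]

/-- a bialgebra with a basis of group-like elements containing `1` has no nonzero primitive
elements -/
theorem eq_zero_of_primitive_of_basis {ι : Type w} (b : Module.Basis ι R H)
    (hb : ∀ i, IsGroupLikeElem R (b i)) (e : ι) (he : b e = 1) (y : H)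
    (hy : Coalgebra.comul (R := R) y = y ⊗ₜ[R] 1 + 1 ⊗ₜ[R] y) : y = 0 := by
  classical
  apply b.ext_elem
  intro i
  rw [map_zero, Finsupp.zero_apply]
  set f : H →ₗ[R] R := b.coord i with hf
  have hfy : f y = b.repr y i := rfl
  rw [← hfy]
  have hM : LinearMap.mul' R R ∘ₗ TensorProduct.map f f ∘ₗ Coalgebra.comul (R := R) (A := H) =
      f := by
    apply b.ext
    intro j
    simp only [LinearMap.comp_apply, (hb j).comul_eq_tmul_self, TensorProduct.map_tmul,
      LinearMap.mul'_apply, hf, Module.Basis.coord_apply, Module.Basis.repr_self]
    by_cases hij : j = i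
    · subst hij
      simp
    · simp [Finsupp.single_apply, hij]
  have h1 := LinearMap.congr_fun hM y
  simp only [LinearMap.comp_apply] at h1
  rw [hy, map_add, TensorProduct.map_tmul, TensorProduct.map_tmul, map_add,
    LinearMap.mul'_apply, LinearMap.mul'_apply] at h1
  have hf1 : f 1 = if e = i then 1 else 0 := by
    rw [← he, hf, Module.Basis.coord_apply, Module.Basis.repr_self, Finsupp.single_apply]
  rw [hf1] at h1
  by_cases hei : e = i
  · rw [if_pos hei, mul_one, one_mul] at h1
    have : f y + f y - f y = f y - f y := by rw [h1]
    simpa using this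
  · rw [if_neg hei, mul_zero, zero_mul, add_zero] at h1
    exact h1.symm

end basis

section field

variable {K : Type u} [Field K] {H : Type v} [Ring H] [Bialgebra K H]

/-- a bialgebra over a field spanned by its group-like elements has no nonzero primitive
elements -/
theorem eq_zero_of_primitive_of_span
    (hspan : Submodule.span K {a : H | IsGroupLikeElem K a} = ⊤) (y : H)
    (hy : Coalgebra.comul (R := K) y = y ⊗ₜ[K] 1 + 1 ⊗ₜ[K] y) : y = 0 := by
  have hli : LinearIndependent K (fun a : {a : H | IsGroupLikeElem K a} => (a : H)) :=
    linearIndepOn_isGroupLikeElem (R := K) (A := H)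
  have hsp : ⊤ ≤ Submodule.span K
      (Set.range (fun a : {a : H | IsGroupLikeElem K a} => (a : H))) := by
    rw [Subtype.range_coe_subtype]
    exact hspan.ge
  let b := Module.Basis.mk hli hsp
  have hbi : ∀ i, b i = (i : H) := fun i => Module.Basis.mk_apply hli hsp i
  refine eq_zero_of_primitive_of_basis b (fun i => ?_) ⟨1, IsGroupLikeElem.one⟩ ?_ y hy
  · rw [hbi]
    exact i.2
  · rw [hbi]

end field

section basechange

variable {k : Type u} [Field k] (K : Type w) [Field K] [Algebra k K]
  {A : Type v} [CommRing A] [Bialgebra k A]

/-- if a base change of `A` to a field extension is spanned by group-like elements, then `A` has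
no nonzero primitive elements -/
theorem eq_zero_of_primitive_of_span_baseChange
    (hspan : Submodule.span K {a : K ⊗[k] A | IsGroupLikeElem K a} = ⊤) (y : A)
    (hy : Coalgebra.comul (R := k) y = y ⊗ₜ[k] 1 + 1 ⊗ₜ[k] y) : y = 0 := by
  have h1 : ((1 : K) ⊗ₜ[k] y : K ⊗[k] A) = 0 := by
    apply eq_zero_of_primitive_of_span hspan
    rw [TensorProduct.comul_tmul, hy, TensorProduct.tmul_add, map_add]
    simp [Algebra.TensorProduct.one_def]
  have hinj : Function.Injective (Algebra.TensorProduct.includeRight : A →ₐ[k] K ⊗[k] A) :=
    Algebra.TensorProduct.includeRight_injective (algebraMap k K).injective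
  apply hinj
  rw [map_zero]
  exact h1

end basechange

end Groth.Agent.Helper2.Unip
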