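import Mathlib
import Groth.Agent.Lib.Helper2.Unip.Filt
import Groth.Agent.Lib.Helper2.Unip.NoPrim

/-!
# Base change of the unipotent filtration and of the absence of primitive elements (helper2)
-/

set_option autoImplicit false
open scoped TensorProduct
open TensorProduct

namespace Groth.Agent.Helper2.Unip

universe u v w

section theta

variable {k : Type u} [CommRing k] (R : Type v) [CommRing R] [Algebra k R]
  (A : Type w) [CommRing A] [Bialgebra k A]

/-- the identification `R ⊗ (A ⊗ A) ≃ (R ⊗ A) ⊗_R (R ⊗ A)` -/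
noncomputable def Θe : R ⊗[k] (A ⊗[k] A) ≃ₗ[R] (R ⊗[k] A) ⊗[R] (R ⊗[k] A) :=
  (AlgebraTensorModule.congr (TensorProduct.lid R R).symm (LinearEquiv.refl k (A ⊗[k] A))) ≪≫ₗ
    AlgebraTensorModule.tensorTensorTensorComm k R k R R R A A

variable {R A}

lemma Θe_tmul (r : R) (a b : A) :
    Θe R A (r ⊗ₜ[k] (a ⊗ₜ[k] b)) = ((1 : R) ⊗ₜ[k] a) ⊗ₜ[R] (r ⊗ₜ[k] b) := by
  simp [Θe]

lemma Θe_tmul' (r : R) (a b : A) :
    Θe R A (r ⊗ₜ[k] (a ⊗ₜ[k] b)) = (r ⊗ₜ[k] a) ⊗ₜ[R] ((1 : R) ⊗ₜ[k] b) := by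
  rw [Θe_tmul]
  have h1 : (r ⊗ₜ[k] b : R ⊗[k] A) = r • ((1 : R) ⊗ₜ[k] b) := by
    rw [TensorProduct.smul_tmul', smul_eq_mul, mul_one]
  have h2 : (r ⊗ₜ[k] a : R ⊗[k] A) = r • ((1 : R) ⊗ₜ[k] a) := by
    rw [TensorProduct.smul_tmul', smul_eq_mul, mul_one]
  rw [h1, h2, TensorProduct.tmul_smul, TensorProduct.smul_tmul']

lemma comul_tmul_eq (r : R) (a : A) :
    Coalgebra.comul (R := R) (r ⊗ₜ[k] a) = Θe R A (r ⊗ₜ[k] Coalgebra.comul (R := k) a) := by
  rw [TensorProduct.comul_tmul]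
  rfl

/-- the comultiplication of the base change in terms of `Θe` -/
lemma comul_eq (x : R ⊗[k] A) :
    Coalgebra.comul (R := R) x =
      Θe R A ((Coalgebra.comul (R := k) (A := A)).lTensor R x) := by
  induction x using TensorProduct.induction_on with
  | zero => simp
  | add x y hx hy => rw [map_add, map_add, map_add, hx, hy]
  | tmul r a => rw [comul_tmul_eq, LinearMap.lTensor_tmul]

lemma Θe_mem_range (F : Submodule k A) (r : R) (t : A ⊗[k] A)
    (ht : t ∈ LinearMap.range (F.subtype.rTensor A)) :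
    Θe R A (r ⊗ₜ[k] t) ∈
      LinearMap.range ((F.baseChange R).subtype.rTensor (R ⊗[k] A)) := by
  obtain ⟨s, rfl⟩ := ht
  induction s using TensorProduct.induction_on with
  | zero =>
    rw [map_zero, TensorProduct.tmul_zero, map_zero]
    exact Submodule.zero_mem _
  | add s t hs ht =>
    rw [map_add, TensorProduct.tmul_add, map_add]
    exact Submodule.add_mem _ hs ht
  | tmul f b =>
    rw [LinearMap.rTensor_tmul, Submodule.subtype_apply, Θe_tmul]
    refine ⟨(⟨(1 : R) ⊗ₜ[k] (f : A), Submodule.tmul_mem_baseChange_of_mem 1 f.2⟩ :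
      F.baseChange R) ⊗ₜ[R] (r ⊗ₜ[k] b), ?_⟩
    rw [LinearMap.rTensor_tmul]
    rfl

end theta

section filtbc

variable {k : Type u} [Field k] (R : Type v) [CommRing R] [Algebra k R]
  (A : Type w) [CommRing A] [Bialgebra k A]

/-- the base change of the filtration -/
noncomputable def filtBC (n : ℕ) : Submodule R (R ⊗[k] A) := (filt k A n).baseChange R

variable {R A}

lemma filtBC_zero : filtBC R A 0 = (⊥ : Submodule R (R ⊗[k] A)) := by
  unfold filtBC
  rw [filt_zero, Submodule.baseChange_bot]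

lemma filtBC_mono : Monotone (filtBC (k := k) R A) := by
  intro m n hmn
  unfold filtBC
  rw [Submodule.baseChange_eq_span, Submodule.baseChange_eq_span]
  exact Submodule.span_mono (Set.image_mono (filt_mono hmn))

lemma filtBC_succ (n : ℕ) (x : R ⊗[k] A) (hx : x ∈ filtBC R A (n + 1)) :
    Coalgebra.comul (R := R) x - x ⊗ₜ[R] (1 : R ⊗[k] A) ∈
      LinearMap.range ((filtBC R A n).subtype.rTensor (R ⊗[k] A)) := by
  let δ : R ⊗[k] A →ₗ[R] (R ⊗[k] A) ⊗[R] (R ⊗[k] A) :=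
    Coalgebra.comul (R := R) (A := R ⊗[k] A) -
      (TensorProduct.mk R (R ⊗[k] A) (R ⊗[k] A)).flip 1
  have hδ : ∀ y, δ y = Coalgebra.comul (R := R) y - y ⊗ₜ[R] (1 : R ⊗[k] A) := fun y => rfl
  rw [← hδ]
  have hle : filtBC R A (n + 1) ≤
      (LinearMap.range ((filtBC R A n).subtype.rTensor (R ⊗[k] A))).comap δ := by
    unfold filtBC
    rw [Submodule.baseChange_eq_span, Submodule.span_le]
    rintro _ ⟨a, ha, rfl⟩
    rw [SetLike.mem_coe, Submodule.mem_comap, hδ]
    show Coalgebra.comul (R := R) ((1 : R) ⊗ₜ[k] a) - ((1 : R) ⊗ₜ[k] a) ⊗ₜ[R] (1 : R ⊗[k] A) ∈ _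
    have h1 : ((1 : R) ⊗ₜ[k] a) ⊗ₜ[R] (1 : R ⊗[k] A) =
        Θe R A ((1 : R) ⊗ₜ[k] (a ⊗ₜ[k] (1 : A))) := by
      rw [Θe_tmul, Algebra.TensorProduct.one_def]
    rw [comul_tmul_eq, h1, ← map_sub, ← TensorProduct.tmul_sub]
    exact Θe_mem_range (filt k A n) 1 _ (mem_filt_succ.mp ha)
  exact hle hx

lemma exists_mem_filtBC (hA : ∀ a : A, ∃ n, a ∈ filt k A n) (x : R ⊗[k] A) :
    ∃ n, x ∈ filtBC R A n := by
  induction x using TensorProduct.induction_on with
  | zero => exact ⟨0, Submodule.zero_mem _⟩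
  | tmul r a =>
    obtain ⟨n, hn⟩ := hA a
    exact ⟨n, Submodule.tmul_mem_baseChange_of_mem r hn⟩
  | add x y hx hy =>
    obtain ⟨n, hn⟩ := hx
    obtain ⟨m, hm⟩ := hy
    exact ⟨max n m, Submodule.add_mem _ (filtBC_mono (le_max_left n m) hn)
      (filtBC_mono (le_max_right n m) hm)⟩

end filtbc

section noprimbc

variable {k : Type u} [Field k] (R : Type v) [CommRing R] [Algebra k R]
  {A : Type w} [CommRing A] [Bialgebra k A]

/-- absence of primitive elements is preserved by base change from a field -/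
theorem eq_zero_of_primitive_baseChange
    (hprim : ∀ y : A, Coalgebra.comul (R := k) y = y ⊗ₜ[k] 1 + 1 ⊗ₜ[k] y → y = 0)
    (y : R ⊗[k] A)
    (hy : Coalgebra.comul (R := R) y = y ⊗ₜ[R] 1 + 1 ⊗ₜ[R] y) : y = 0 := by
  let δ : A →ₗ[k] A ⊗[k] A :=
    Coalgebra.comul (R := k) (A := A) - (TensorProduct.mk k A A).flip 1 - TensorProduct.mk k A A 1
  have hδ : ∀ a, δ a = Coalgebra.comul (R := k) a - a ⊗ₜ[k] 1 - 1 ⊗ₜ[k] a := fun a => rfl
  have hinj : Function.Injective δ := by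
    rw [← LinearMap.ker_eq_bot, eq_bot_iff]
    intro a ha
    rw [LinearMap.mem_ker, hδ, sub_sub, sub_eq_zero] at ha
    rw [Submodule.mem_bot]
    exact hprim a ha
  have hinj2 : Function.Injective (δ.lTensor R) :=
    Module.Flat.lTensor_preserves_injective_linearMap δ hinj
  have key : ∀ x : R ⊗[k] A, Θe R A (δ.lTensor R x) =
      Coalgebra.comul (R := R) x - x ⊗ₜ[R] 1 - 1 ⊗ₜ[R] x := by
    intro x
    induction x using TensorProduct.induction_on with
    | zero => simp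
    | add x y hx hy =>
      rw [map_add, map_add, hx, hy, map_add, TensorProduct.add_tmul, TensorProduct.tmul_add]
      abel
    | tmul r a =>
      rw [LinearMap.lTensor_tmul, hδ, TensorProduct.tmul_sub, TensorProduct.tmul_sub, map_sub,
        map_sub, ← comul_tmul_eq, Θe_tmul', Θe_tmul, Algebra.TensorProduct.one_def]
  apply hinj2
  rw [map_zero]
  apply (Θe R A).injective
  rw [key, hy, map_zero]
  abel

end noprimbc

end Groth.Agent.Helper2.Unip
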