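import Mathlib
import Groth.Agent.Lib.Helper2.Unip.BaseChange
import Groth.Agent.Lib.Helper2.Unip.Coconn

/-!
# Unipotence is insensitive to extension of the base field (helper2)
-/

set_option autoImplicit false
open scoped TensorProduct
open TensorProduct Groth.Agent.Helper9

namespace Groth.Agent.Helper2.Unip

universe u v w

section up

variable {k : Type u} [Field k] (k' : Type v) [Field k'] [Algebra k k']
  {A : Type w} [CommRing A] [Bialgebra k A]

/-- an exhaustive unipotent filtration gives unipotence after any field extension -/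
theorem isUnipotent_baseChange_of_filt (hA : ∀ a : A, ∃ n, a ∈ filt k A n) :
    HopfRep.IsUnipotent k' (k' ⊗[k] A) :=
  isUnipotent_of_filtration (filtBC k' A) filtBC_zero filtBC_mono (exists_mem_filtBC hA)
    filtBC_succ

end up

section down

variable {k : Type u} [Field k] (k' : Type v) [Field k'] [Algebra k k']
  {A : Type w} [CommRing A] [Bialgebra k A]

/-- the base change of a functional -/
noncomputable def bcFun (f : A →ₗ[k] k) : k' ⊗[k] A →ₗ[k'] k' :=
  (TensorProduct.AlgebraTensorModule.rid k k' k').toLinearMap ∘ₗ f.baseChange k'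

lemma bcFun_tmul (f : A →ₗ[k] k) (c : k') (a : A) : bcFun k' f (c ⊗ₜ[k] a) = f a • c := by
  simp [bcFun]

lemma slice_Θe (f : A →ₗ[k] k) (z : A ⊗[k] A) :
    slice (k := k') (C := k' ⊗[k] A) (V := k' ⊗[k] A) (bcFun k' f)
      (Θe k' A ((1 : k') ⊗ₜ[k] z)) = (1 : k') ⊗ₜ[k] (slice (k := k) (C := A) (V := A) f z) := by
  induction z using TensorProduct.induction_on with
  | zero => simp
  | add x y hx hy => rw [TensorProduct.tmul_add, map_add, map_add, hx, hy, map_add,
      TensorProduct.tmul_add]
  | tmul a b =>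
    rw [Θe_tmul, slice_tmul, slice_tmul, bcFun_tmul, TensorProduct.tmul_smul,
      TensorProduct.smul_tmul', TensorProduct.smul_tmul', smul_eq_mul, mul_one,
      Algebra.smul_def, mul_one]

/-- unipotence descends along a field extension -/
theorem isUnipotent_of_baseChange (hU : HopfRep.IsUnipotent k' (k' ⊗[k] A)) :
    HopfRep.IsUnipotent k A := by
  let inc : A →ₗ[k] k' ⊗[k] A := TensorProduct.mk k k' A 1
  have hinc : ∀ a, inc a = (1 : k') ⊗ₜ[k] a := fun a => rfl
  have hincinj : Function.Injective inc :=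
    Algebra.TensorProduct.includeRight_injective (A := k') (B := A) (algebraMap k k').injective
  let E : ℕ → Submodule k A := fun n =>
    Submodule.comap inc ((filt k' (k' ⊗[k] A) n).restrictScalars k)
  have hEmem : ∀ n a, a ∈ E n ↔ (1 : k') ⊗ₜ[k] a ∈ filt k' (k' ⊗[k] A) n := fun n a => Iff.rfl
  refine isUnipotent_of_filtration E ?_ ?_ ?_ ?_
  · rw [eq_bot_iff]
    intro a ha
    rw [hEmem, filt_zero, Submodule.mem_bot] at ha
    rw [Submodule.mem_bot]
    apply hincinj
    rw [hinc, ha, map_zero]
  · intro m n hmn a ha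
    rw [hEmem] at ha ⊢
    exact filt_mono hmn ha
  · intro a
    obtain ⟨n, hn⟩ := exists_mem_filt_of_isUnipotent hU ((1 : k') ⊗ₜ[k] a)
    exact ⟨n, (hEmem n a).mpr hn⟩
  · intro n a ha
    rw [hEmem, mem_filt_succ] at ha
    apply mem_range_rTensor_subtype_of_slice_mem
    intro f
    rw [hEmem, ← slice_Θe]
    apply slice_mem_of_mem_range_rTensor_subtype
    have h1 : Θe k' A ((1 : k') ⊗ₜ[k] (Coalgebra.comul (R := k) a - a ⊗ₜ[k] (1 : A))) =
        Coalgebra.comul (R := k') ((1 : k') ⊗ₜ[k] a) -
          ((1 : k') ⊗ₜ[k] a) ⊗ₜ[k'] (1 : k' ⊗[k] A) := by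
      rw [TensorProduct.tmul_sub, map_sub, ← comul_tmul_eq, Θe_tmul,
        Algebra.TensorProduct.one_def]
    rw [h1]
    exact ha

end down

end Groth.Agent.Helper2.Unip
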