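import Mathlib
import Groth.Agent.Lib.Helper2.Unip.FieldExt
import Groth.Agent.Lib.Helper2.Unip.CoconnPart

/-!
# The filtration of a base change is the base change of the filtration (helper2)
-/

set_option autoImplicit false
open scoped TensorProduct

namespace Groth.Agent.Helper2.Unip

open Groth.Agent.Helper9

universe u v w

section coef

variable {k : Type u} [Field k] {K : Type v} [Field K] [Algebra k K]
  {ι : Type*} (b : Module.Basis ι k K)
  {M : Type*} [AddCommGroup M] [Module k M] {M' : Type*} [AddCommGroup M'] [Module k M']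

/-- the `i`-th coefficient of an element of `K ⊗ M` with respect to a basis of `K` -/
noncomputable def coef (i : ι) : K ⊗[k] M →ₗ[k] M :=
  (TensorProduct.lid k M).toLinearMap ∘ₗ (b.coord i).rTensor M

lemma coef_tmul (i : ι) (c : K) (m : M) : coef b i (c ⊗ₜ[k] m) = b.coord i c • m := by
  simp [coef]

lemma coef_lTensor (i : ι) (g : M →ₗ[k] M') (u : K ⊗[k] M) :
    coef b i (g.lTensor K u) = g (coef b i u) := by
  induction u using TensorProduct.induction_on with
  | zero => simp
  | tmul c m => simp [coef_tmul]
  | add x y hx hy => simp only [map_add, hx, hy]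

lemma eq_sum_coef [DecidableEq ι] (u : K ⊗[k] M) :
    u = (TensorProduct.equivFinsuppOfBasisLeft b u).sum fun i m => b i ⊗ₜ[k] m := by
  rw [← TensorProduct.equivFinsuppOfBasisLeft_symm_apply, LinearEquiv.symm_apply_apply]

lemma equiv_apply_eq_coef [DecidableEq ι] (u : K ⊗[k] M) (i : ι) :
    TensorProduct.equivFinsuppOfBasisLeft b u i = coef b i u := by
  rw [TensorProduct.equivFinsuppOfBasisLeft_apply]
  rfl

lemma coef_mem_of_mem_baseChange (F : Submodule k M) (u : K ⊗[k] M) (hu : u ∈ F.baseChange K)
    (i : ι) : coef b i u ∈ F := by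
  obtain ⟨w, rfl⟩ := hu
  have h1 : F.mkQ (coef b i (F.subtype.baseChange K w)) = 0 := by
    rw [← coef_lTensor]
    have : F.mkQ.lTensor K (F.subtype.baseChange K w) = 0 := by
      show F.mkQ.lTensor K (F.subtype.lTensor K w) = 0
      rw [← LinearMap.comp_apply, ← LinearMap.lTensor_comp]
      have : F.mkQ ∘ₗ F.subtype = 0 := by
        apply LinearMap.ext
        intro x
        simp
      rw [this, LinearMap.lTensor_zero, LinearMap.zero_apply]
    rw [this, map_zero]
  exact (Submodule.Quotient.mk_eq_zero F).mp h1

lemma mem_baseChange_of_coef_mem (F : Submodule k M) (u : K ⊗[k] M)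
    (h : ∀ i, coef b i u ∈ F) : u ∈ F.baseChange K := by
  classical
  rw [eq_sum_coef b u]
  apply Submodule.sum_mem
  intro i _
  rw [equiv_apply_eq_coef]
  exact Submodule.tmul_mem_baseChange_of_mem (b i) (h i)

end coef

section main

variable {k : Type u} [Field k] (K : Type v) [Field K] [Algebra k K]
  {A : Type w} [CommRing A] [Bialgebra k A]

lemma slice_Θe' (f : A →ₗ[k] k) (c : K) (z : A ⊗[k] A) :
    slice (k := K) (C := K ⊗[k] A) (V := K ⊗[k] A) (bcFun K f)
      (Θe K A (c ⊗ₜ[k] z)) = c ⊗ₜ[k] (slice (k := k) (C := A) (V := A) f z) := by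
  have h1 : (c ⊗ₜ[k] z : K ⊗[k] (A ⊗[k] A)) = c • ((1 : K) ⊗ₜ[k] z) := by
    rw [TensorProduct.smul_tmul', smul_eq_mul, mul_one]
  rw [h1, map_smul, map_smul, slice_Θe, TensorProduct.smul_tmul', smul_eq_mul, mul_one]

/-- the filtration of the base change is contained in the base change of the filtration -/
theorem filt_baseChange_le (n : ℕ) : filt K (K ⊗[k] A) n ≤ filtBC K A n := by
  induction n with
  | zero => rw [filt_zero]; exact bot_le
  | succ n ih =>
    intro x hx
    have hx' := range_rTensor_mono ih (mem_filt_succ.mp hx)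
    let b := Module.Basis.ofVectorSpace k K
    let δ : A →ₗ[k] A ⊗[k] A :=
      Coalgebra.comul (R := k) (A := A) - (TensorProduct.mk k A A).flip 1
    have hδ : ∀ a, δ a = Coalgebra.comul (R := k) a - a ⊗ₜ[k] (1 : A) := fun a => rfl
    have key : ∀ y : K ⊗[k] A, Θe K A (δ.lTensor K y) =
        Coalgebra.comul (R := K) y - y ⊗ₜ[K] (1 : K ⊗[k] A) := by
      intro y
      induction y using TensorProduct.induction_on with
      | zero => simp
      | add y z hy hz =>
        rw [map_add, map_add, hy, hz, map_add, TensorProduct.add_tmul]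
        abel
      | tmul r a =>
        rw [LinearMap.lTensor_tmul, hδ, TensorProduct.tmul_sub, map_sub, ← comul_tmul_eq,
          Θe_tmul', Algebra.TensorProduct.one_def]
    have hslice : ∀ (f : A →ₗ[k] k) (y : K ⊗[k] A),
        slice (k := K) (C := K ⊗[k] A) (V := K ⊗[k] A) (bcFun K f) (Θe K A (δ.lTensor K y)) =
          ((slice (k := k) (C := A) (V := A) f) ∘ₗ δ).lTensor K y := by
      intro f y
      induction y using TensorProduct.induction_on with
      | zero => simp
      | add y z hy hz => simp only [map_add, hy, hz]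
      | tmul r a => rw [LinearMap.lTensor_tmul, slice_Θe', LinearMap.lTensor_tmul,
          LinearMap.comp_apply]
    apply mem_baseChange_of_coef_mem b
    intro i
    rw [mem_filt_succ]
    apply mem_range_rTensor_subtype_of_slice_mem
    intro f
    have h1 : slice (k := k) (C := A) (V := A) f
        (Coalgebra.comul (R := k) (coef b i x) - coef b i x ⊗ₜ[k] (1 : A)) =
        coef b i (((slice (k := k) (C := A) (V := A) f) ∘ₗ δ).lTensor K x) := by
      rw [coef_lTensor, LinearMap.comp_apply, hδ]
    rw [h1, ← hslice, key]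
    exact coef_mem_of_mem_baseChange b _ _
      (slice_mem_of_mem_range_rTensor_subtype _ _ hx' _) i

end main

end Groth.Agent.Helper2.Unip
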