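import Mathlib
import Groth.Agent.Lib.Helper2.Unip.Filt
import Groth.Agent.Lib.Helper2.Unip.NoPrim
import Groth.Agent.Lib.Helper2.Hopf.HopfSub
import Groth.Agent.Lib.Helper2.FF.Epi

/-!
# No homomorphisms between groups of multiplicative type and unipotent groups (helper2)
-/

set_option autoImplicit false
open scoped TensorProduct

namespace Groth.Agent.Helper2.Unip

universe u v w

section one

variable {k : Type u} [Field k] {AU : Type v} {AM : Type w} [CommRing AU] [CommRing AM]
  [Bialgebra k AU] [Bialgebra k AM]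

/-- a homomorphism from a group without homomorphisms to `G_a` to a unipotent group is trivial -/
theorem trivial_of_unipotent_of_noPrim (φ : AU →ₐc[k] AM) (hU : HopfRep.IsUnipotent k AU)
    (hprim : ∀ y : AM, Coalgebra.comul (R := k) y = y ⊗ₜ[k] 1 + 1 ⊗ₜ[k] y → y = 0) (a : AU) :
    φ a = algebraMap k AM (Coalgebra.counit (R := k) a) := by
  obtain ⟨n, hn⟩ := exists_mem_filt_of_isUnipotent hU a
  exact apply_eq_of_filtration φ hprim (filt k AU) filt_zero
    (fun n x hx => mem_filt_succ.mp hx) n a hn

end one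

section sub

variable {k : Type u} [Field k] {A : Type v} [CommRing A] [HopfAlgebra k A]
  {B : Type v} [CommRing B] [HopfAlgebra k B]

open Groth.Agent.Helper9 in
/-- a Hopf algebra with an injective bialgebra map to a unipotent one is unipotent (quotients of
unipotent groups are unipotent) -/
theorem isUnipotent_of_injective (ι : B →ₐc[k] A) (hι : Function.Injective ι)
    (hU : HopfRep.IsUnipotent k A) : HopfRep.IsUnipotent k B := by
  intro V _ _ instB hfin hnt
  letI instA : HopfRep.Comod k A V := comodOfCoalgHom (ι : B →ₗc[k] A)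
  have h1 := hU V hfin hnt
  intro hbot
  apply h1
  rw [eq_bot_iff]
  intro v hv
  have hv' : v ∈ HopfRep.fixedPts k B V := by
    show HopfRep.Comod.coact (k := k) (A := B) v = v ⊗ₜ[k] (1 : B)
    have h2 : (ι : B →ₗ[k] A).lTensor V (HopfRep.Comod.coact (k := k) (A := B) v) =
        v ⊗ₜ[k] (1 : A) := hv
    have hinj : Function.Injective ((ι : B →ₗ[k] A).lTensor V) :=
      Module.Flat.lTensor_preserves_injective_linearMap _ hι
    apply hinj
    rw [h2, LinearMap.lTensor_tmul]
    congr 1
    exact (map_one ι).symm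
  rw [hbot] at hv'
  exact hv'

end sub

section two

variable {k : Type u} [Field k] {AU AM : Type u} [CommRing AU] [CommRing AM]
  [HopfAlgebra k AU] [HopfAlgebra k AM]

open Groth.Agent.Helper2.HopfSub Groth.Agent.Helper2.FF in
/-- a homomorphism from a unipotent group to a group of multiplicative type is trivial -/
theorem trivial_of_multType_of_unipotent (K : Type w) [Field K] [Algebra k K]
    (hM : Submodule.span K {a : K ⊗[k] AM | IsGroupLikeElem K a} = ⊤)
    (hU : HopfRep.IsUnipotent k AU) (ψ : AM →ₐc[k] AU) (a : AM) :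
    ψ a = algebraMap k AU (Coalgebra.counit (R := k) a) := by
  set B : Subalgebra k AU := (ψ : AM →ₐ[k] AU).range with hB
  have hHS : HS B := HS_range ψ
  have hΔ : ∀ b : B, Coalgebra.comul (R := k) (B.val b) ∈ (ι₂ B.val).range :=
    fun b => hHS.1 b b.2
  have hS : ∀ b : B, HopfAlgebra.antipode k (B.val b) ∈ B.val.range :=
    fun b => ⟨⟨_, hHS.2 b b.2⟩, rfl⟩
  letI : HopfAlgebra k B := hopfAlgebraB (ι := B.val) Subtype.val_injective hΔ hS
  -- the corestriction of ψ as a bialgebra map
  let ψ₀ : AM →ₐ[k] B := (ψ : AM →ₐ[k] AU).rangeRestrict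
  have hψ₀ : ∀ x, ((ψ₀ x : B) : AU) = ψ x := fun x => rfl
  have hcounit : (Bialgebra.counitAlgHom k B).comp ψ₀ = Bialgebra.counitAlgHom k AM := by
    apply AlgHom.ext
    intro x
    show Coalgebra.counit (R := k) ((ψ₀ x : B) : AU) = Coalgebra.counit (R := k) x
    rw [hψ₀]
    exact CoalgHomClass.counit_comp_apply ψ x
  have hcomul : (Algebra.TensorProduct.map ψ₀ ψ₀).comp (Bialgebra.comulAlgHom k AM) =
      (Bialgebra.comulAlgHom k B).comp ψ₀ := by
    apply AlgHom.ext
    intro x
    apply ι₂_injective (ι := B.val) Subtype.val_injective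
    show ι₂ B.val (Algebra.TensorProduct.map ψ₀ ψ₀ (Coalgebra.comul (R := k) x)) =
      ι₂ B.val (comulB (ι := B.val) Subtype.val_injective hΔ (ψ₀ x))
    rw [ι₂_comulB]
    show _ = Coalgebra.comul (R := k) (ψ x)
    rw [← CoalgHomClass.map_comp_comul_apply ψ x]
    generalize Coalgebra.comul (R := k) x = z
    induction z using TensorProduct.induction_on with
    | zero => simp
    | tmul x y => rfl
    | add x y hx hy => simp only [map_add, hx, hy]
  let ψ' : AM →ₐc[k] B := BialgHom.ofAlgHom ψ₀ hcounit hcomul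
  have hψ's : Function.Surjective ψ' := (ψ : AM →ₐ[k] AU).rangeRestrict_surjective
  -- B is unipotent
  have hUB : HopfRep.IsUnipotent k B :=
    isUnipotent_of_injective (ιBialg (ι := B.val) Subtype.val_injective hΔ hS)
      Subtype.val_injective hU
  -- the base change of B is spanned by group-like elements
  have hMB : Submodule.span K {b : K ⊗[k] B | IsGroupLikeElem K b} = ⊤ := by
    let Ψ : K ⊗[k] AM →ₐc[K] K ⊗[k] B := Bialgebra.TensorProduct.map (BialgHom.id K K) ψ'
    have hΨs : Function.Surjective Ψ := by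
      have : Function.Surjective (TensorProduct.map (LinearMap.id : K →ₗ[k] K)
          (ψ' : AM →ₗ[k] B)) :=
        TensorProduct.map_surjective Function.surjective_id hψ's
      exact this
    rw [eq_top_iff]
    have h1 : Submodule.map (Ψ : K ⊗[k] AM →ₗ[K] K ⊗[k] B)
        (Submodule.span K {a : K ⊗[k] AM | IsGroupLikeElem K a}) ≤
        Submodule.span K {b : K ⊗[k] B | IsGroupLikeElem K b} := by
      rw [Submodule.map_span]
      apply Submodule.span_mono
      rintro _ ⟨a, ha, rfl⟩
      exact IsGroupLikeElem.map Ψ ha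
    rw [hM, Submodule.map_top] at h1
    have h2 : LinearMap.range (Ψ : K ⊗[k] AM →ₗ[K] K ⊗[k] B) = ⊤ :=
      LinearMap.range_eq_top.mpr hΨs
    rw [h2] at h1
    exact h1
  have hprimB : ∀ y : B, Coalgebra.comul (R := k) y = y ⊗ₜ[k] 1 + 1 ⊗ₜ[k] y → y = 0 :=
    eq_zero_of_primitive_of_span_baseChange K hMB
  have h2 := trivial_of_unipotent_of_noPrim (BialgHom.id k B) hUB hprimB (ψ' a)
  have h3 : ((ψ' a : B) : AU) = ψ a := rfl
  rw [← h3]
  have h4 : (ψ' a : B) = algebraMap k B (Coalgebra.counit (R := k) (ψ' a)) := h2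
  rw [h4]
  have h5 : Coalgebra.counit (R := k) (ψ' a) = Coalgebra.counit (R := k) a :=
    CoalgHomClass.counit_comp_apply ψ' a
  rw [h5]
  rfl

end two

end Groth.Agent.Helper2.Unip
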