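import Mathlib
import Groth.Prelude.Def_SGA3b
import Groth.Agent.Lib.Helper2.Unip.Pointed
import Groth.Agent.Lib.Helper2.Unip.FiltBC
import Groth.Agent.Lib.Helper2.Unip.NoHoms
import Groth.Agent.Lib.Helper6.MultType.Field

/-!
# The largest subgroup of multiplicative type of a commutative affine group (helper2)
-/

set_option autoImplicit false
open scoped TensorProduct

namespace Groth.Agent.Helper2.MultPart

open Groth.Agent.Helper2.Unip Groth.Agent.Helper2.Pointed Groth.Agent.Helper2.FF
  Groth.Agent.Helper2.HopfSub Groth.Agent.Helper9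

universe u v w

section augJ

variable {k : Type u} [Field k] {A : Type v} [CommRing A] [HopfAlgebra k A]

/-- the ideal generated by the augmentation ideal of a subalgebra -/
def augJ (B : Subalgebra k A) : Ideal A :=
  Ideal.span {a : A | a ∈ B ∧ Coalgebra.counit (R := k) a = 0}

lemma sub_counit_mem_augJ (B : Subalgebra k A) {b : A} (hb : b ∈ B) :
    b - algebraMap k A (Coalgebra.counit (R := k) b) ∈ augJ B := by
  apply Ideal.subset_span
  refine ⟨B.sub_mem hb (B.algebraMap_mem _), ?_⟩
  rw [map_sub, Bialgebra.counit_algebraMap, sub_self]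

lemma mk_eq_of_mem (B : Subalgebra k A) {b : A} (hb : b ∈ B) :
    Ideal.Quotient.mk (augJ B) b =
      algebraMap k (A ⧸ augJ B) (Coalgebra.counit (R := k) b) := by
  have h := Ideal.Quotient.eq_zero_iff_mem.mpr (sub_counit_mem_augJ B hb)
  rw [map_sub, sub_eq_zero] at h
  rw [h]
  rfl

/-- the ideal generated by the augmentation ideal of a sub-Hopf-algebra is a Hopf ideal -/
theorem isHopfIdeal_augJ (B : Subalgebra k A) (hB : HS B) : (augJ B).IsHopfIdeal k := by
  set J := augJ B with hJ
  have h1 : J ≤ RingHom.ker (Bialgebra.counitAlgHom k A) := by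
    rw [hJ, augJ, Ideal.span_le]
    rintro a ⟨_, ha⟩
    exact ha
  have h2 : J ≤ Ideal.comap (HopfAlgebra.antipodeAlgHom k A) J := by
    rw [hJ, augJ, Ideal.span_le]
    rintro a ⟨haB, ha⟩
    rw [SetLike.mem_coe, Ideal.mem_comap]
    apply Ideal.subset_span
    refine ⟨hB.2 a haB, ?_⟩
    show Coalgebra.counit (R := k) (HopfAlgebra.antipode k a) = 0
    rw [HopfAlgebra.counit_antipode]
    exact ha
  let q : A →ₐ[k] A ⧸ J := Ideal.Quotient.mkₐ k J
  have hq : ∀ b ∈ B, q b = algebraMap k (A ⧸ J) (Coalgebra.counit (R := k) b) :=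
    fun b hb => mk_eq_of_mem B hb
  have h3a : ∀ t : B ⊗[k] B, Algebra.TensorProduct.map q q
      (Algebra.TensorProduct.map B.val B.val t) =
      algebraMap k _ (LinearMap.mul' k k (TensorProduct.map (Coalgebra.counit (R := k) (A := A))
        (Coalgebra.counit (R := k) (A := A)) (Algebra.TensorProduct.map B.val B.val t))) := by
    intro t
    induction t using TensorProduct.induction_on with
    | zero => simp
    | add s t hs ht => simp only [map_add, hs, ht]
    | tmul b c =>
      rw [Algebra.TensorProduct.map_tmul, Algebra.TensorProduct.map_tmul,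
        TensorProduct.map_tmul, LinearMap.mul'_apply]
      show q (b : A) ⊗ₜ[k] q (c : A) = _
      rw [hq _ b.2, hq _ c.2]
      show _ = algebraMap k _ (Coalgebra.counit (R := k) (b : A) * Coalgebra.counit (R := k) (c : A))
      generalize Coalgebra.counit (R := k) (b : A) = r
      generalize Coalgebra.counit (R := k) (c : A) = s
      rw [Algebra.TensorProduct.algebraMap_apply, map_mul, Algebra.algebraMap_eq_smul_one s,
        TensorProduct.tmul_smul, mul_smul_comm, mul_one, ← TensorProduct.smul_tmul']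
  have hεε : ∀ a : A, LinearMap.mul' k k (TensorProduct.map (Coalgebra.counit (R := k) (A := A))
      (Coalgebra.counit (R := k) (A := A)) (Coalgebra.comul (R := k) a)) =
      Coalgebra.counit (R := k) a := by
    intro a
    have h := Coalgebra.rTensor_counit_comul (R := k) a
    have h' := congrArg (fun z => LinearMap.mul' k k
      ((Coalgebra.counit (R := k) (A := A)).lTensor k z)) h
    simp only [LinearMap.lTensor_tmul, LinearMap.mul'_apply, one_mul] at h'
    rw [← h']
    generalize Coalgebra.comul (R := k) a = t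
    induction t using TensorProduct.induction_on with
    | zero => simp
    | add s t hs ht => simp only [map_add, hs, ht]
    | tmul b c => simp
  have h3 : J ≤ RingHom.ker ((Algebra.TensorProduct.map q q).comp (Bialgebra.comulAlgHom k A)) := by
    refine Ideal.span_le.mpr ?_
    rintro a ⟨haB, ha⟩
    rw [SetLike.mem_coe, RingHom.mem_ker, AlgHom.comp_apply]
    show Algebra.TensorProduct.map q q (Coalgebra.comul (R := k) a) = 0
    obtain ⟨t, ht⟩ := hB.1 a haB
    have ht' : Algebra.TensorProduct.map B.val B.val t = Coalgebra.comul (R := k) a := ht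
    rw [← ht', h3a, ht', hεε, ha, map_zero]
  refine { counit_eq_zero := ?_, map_mkQ_comul_eq_zero := ?_, antipode_mem := ?_ }
  · intro x hx
    exact h1 hx
  · intro x hx
    exact RingHom.mem_ker.mp (h3 hx)
  · intro x hx
    exact h2 hx

end augJ

section gen
variable {k : Type u} [Field k] {A : Type v} [CommRing A] [Bialgebra k A]
  {B : Type w} [CommRing B] [Bialgebra k B]

lemma slice_map_hom (φ : B →ₗ[k] A) (f' : A →ₗ[k] k) (t : B ⊗[k] B) :
    slice (k := k) (C := A) (V := A) f' (TensorProduct.map φ φ t) =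
      φ (slice (k := k) (C := B) (V := B) (f' ∘ₗ φ) t) := by
  induction t using TensorProduct.induction_on with
  | zero => simp
  | add s t hs ht => simp only [map_add, hs, ht]
  | tmul b c => simp

/-- a bialgebra mapping injectively into the coconnected part of `A` is unipotent -/
theorem isUnipotent_of_injective_of_filt (φ : B →ₐc[k] A) (hφ : Function.Injective φ)
    (hex : ∀ b : B, ∃ n, φ b ∈ filt k A n) : HopfRep.IsUnipotent k B := by
  let j : B →ₗ[k] A := (φ : B →ₗ[k] A)
  have hj : ∀ b, j b = φ b := fun b => rfl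
  let E : ℕ → Submodule k B := fun n => (filt k A n).comap j
  have hE : ∀ n (x : B), x ∈ E n ↔ φ x ∈ filt k A n := fun n x => Iff.rfl
  refine isUnipotent_of_filtration E ?_ ?_ ?_ ?_
  · rw [eq_bot_iff]
    intro x hx
    rw [hE, filt_zero, Submodule.mem_bot] at hx
    rw [Submodule.mem_bot]
    exact hφ (hx.trans (map_zero φ).symm)
  · intro m n hmn x hx
    rw [hE] at hx ⊢
    exact filt_mono hmn hx
  · intro x
    obtain ⟨n, hn⟩ := hex x
    exact ⟨n, (hE n x).mpr hn⟩
  · intro n x hx
    apply mem_range_rTensor_subtype_of_slice_mem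
    intro f
    rw [hE] at hx ⊢
    have hjinj : LinearMap.ker j = ⊥ := LinearMap.ker_eq_bot.mpr hφ
    obtain ⟨r, hr⟩ := LinearMap.exists_leftInverse_of_injective j hjinj
    let f' : A →ₗ[k] k := f ∘ₗ r
    have hff : f' ∘ₗ j = f := by
      rw [LinearMap.comp_assoc, hr, LinearMap.comp_id]
    have h0 : TensorProduct.map (φ : B →ₗ[k] A) (φ : B →ₗ[k] A) (Coalgebra.comul (R := k) x) =
        Coalgebra.comul (R := k) (φ x) := CoalgHomClass.map_comp_comul_apply φ x
    have h1 : TensorProduct.map j j (Coalgebra.comul (R := k) x - x ⊗ₜ[k] (1 : B)) =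
        Coalgebra.comul (R := k) (φ x) - (φ x) ⊗ₜ[k] (1 : A) := by
      rw [map_sub, TensorProduct.map_tmul, hj, hj, map_one, ← h0]
    have h2 := slice_map_hom j f' (Coalgebra.comul (R := k) x - x ⊗ₜ[k] (1 : B))
    rw [h1, hff, hj] at h2
    have hx' : Coalgebra.comul (R := k) (φ x) - (φ x) ⊗ₜ[k] (1 : A) ∈
        LinearMap.range ((filt k A n).subtype.rTensor A) := hx
    have h3 : slice (k := k) (C := A) (V := A) f'
        (Coalgebra.comul (R := k) (φ x) - (φ x) ⊗ₜ[k] (1 : A)) ∈ filt k A n :=
      slice_mem_of_mem_range_rTensor_subtype (filt k A n) _ hx' f'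
    rw [h2] at h3
    exact h3
end gen

section unip

variable {k : Type u} [Field k] {A : Type v} [CommRing A] [HopfAlgebra k A]
  [Coalgebra.IsCocomm k A]

lemma hΔ_coconn (b : coconn k A) :
    Coalgebra.comul (R := k) ((coconn k A).val b) ∈ (ι₂ (coconn k A).val).range :=
  (HS_coconn (k := k) (A := A)).1 b b.2

lemma hS_coconn (b : coconn k A) :
    HopfAlgebra.antipode k ((coconn k A).val b) ∈ (coconn k A).val.range :=
  ⟨⟨_, (HS_coconn (k := k) (A := A)).2 b b.2⟩, rfl⟩

/-- the Hopf algebra structure on the coconnected part -/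
noncomputable abbrev hopfCoconn : HopfAlgebra k (coconn k A) :=
  hopfAlgebraB (ι := (coconn k A).val) Subtype.val_injective hΔ_coconn hS_coconn

/-- the inclusion of the coconnected part as a bialgebra map -/
noncomputable def inclCoconn : letI := hopfCoconn (k := k) (A := A); coconn k A →ₐc[k] A :=
  ιBialg (ι := (coconn k A).val) Subtype.val_injective hΔ_coconn hS_coconn

lemma inclCoconn_apply (b : coconn k A) : inclCoconn (k := k) (A := A) b = (b : A) := rfl

lemma inclCoconn_injective : Function.Injective (inclCoconn (k := k) (A := A)) :=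
  Subtype.val_injective

/-- the coconnected part is unipotent -/
theorem isUnipotent_coconn : letI := hopfCoconn (k := k) (A := A)
    HopfRep.IsUnipotent k (coconn k A) := by
  letI := hopfCoconn (k := k) (A := A)
  exact isUnipotent_of_injective_of_filt (inclCoconn (k := k) (A := A)) inclCoconn_injective
    (fun b => b.2)

lemma augJ_coconn_eq : letI := hopfCoconn (k := k) (A := A)
    augJ (coconn k A) = Ideal.map ((inclCoconn (k := k) (A := A) : coconn k A →ₐc[k] A) :
      coconn k A →+* A) (RingHom.ker (Bialgebra.counitAlgHom k (coconn k A))) := by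
  letI := hopfCoconn (k := k) (A := A)
  unfold augJ Ideal.map
  congr 1
  ext a
  constructor
  · rintro ⟨haB, ha⟩
    exact ⟨⟨a, haB⟩, ha, rfl⟩
  · rintro ⟨b, hb, rfl⟩
    exact ⟨b.2, hb⟩

end unip

section mult

variable {k : Type u} [Field k] {A : Type u} [CommRing A] [HopfAlgebra k A]
  [Coalgebra.IsCocomm k A]

instance instHopfIdealCoconn : (augJ (coconn k A)).IsHopfIdeal k :=
  isHopfIdeal_augJ (coconn k A) (HS_coconn (k := k) (A := A))

/-- the quotient by the ideal of the coconnected part is of multiplicative type -/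
theorem isMultTypeConst_quotient : SGA3b.IsMultTypeConst k (A ⧸ augJ (coconn k A)) := by
  let K := AlgebraicClosure k
  refine ⟨K, inferInstance, inferInstance, inferInstance, ?_⟩
  apply Groth.Agent.Lib.Helper6.MultType.isDiag_of_span_groupLike
  let J := augJ (coconn k A)
  let p : K ⊗[k] A →ₐc[K] K ⊗[k] (A ⧸ J) :=
    Bialgebra.TensorProduct.map (BialgHom.id K K) (Bialgebra.Quotient.mkBialgHom (R := k) J)
  have hp : ∀ (c : K) (a : A), p (c ⊗ₜ[k] a) = c ⊗ₜ[k] Ideal.Quotient.mk J a := fun c a => rfl
  have hpsurj : Function.Surjective p := by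
    intro q
    induction q using TensorProduct.induction_on with
    | zero => exact ⟨0, map_zero _⟩
    | add x y hx hy =>
      obtain ⟨x', rfl⟩ := hx
      obtain ⟨y', rfl⟩ := hy
      exact ⟨x' + y', map_add _ _ _⟩
    | tmul c a =>
      obtain ⟨a', rfl⟩ := Ideal.Quotient.mk_surjective a
      exact ⟨c ⊗ₜ[k] a', hp c a'⟩
  -- the coconnected part of `K ⊗ A` maps to scalars
  have hscal : ∀ y ∈ coconn K (K ⊗[k] A), ∃ c : K, p y = c • (1 : K ⊗[k] (A ⧸ J)) := by
    rintro y ⟨n, hn⟩
    have hy : y ∈ filtBC K A n := filt_baseChange_le K n hn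
    clear hn
    unfold filtBC at hy
    rw [Submodule.baseChange_eq_span] at hy
    induction hy using Submodule.span_induction with
    | mem z hz =>
      obtain ⟨a, ha, rfl⟩ := hz
      refine ⟨algebraMap k K (Coalgebra.counit (R := k) a), ?_⟩
      show p ((1 : K) ⊗ₜ[k] a) = _
      rw [hp, mk_eq_of_mem (coconn k A) ⟨n, ha⟩, Algebra.algebraMap_eq_smul_one,
        TensorProduct.tmul_smul, Algebra.TensorProduct.one_def, algebraMap_smul]
    | zero => exact ⟨0, by rw [map_zero, zero_smul]⟩
    | add x z _ _ hx hz =>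
      obtain ⟨c, hc⟩ := hx
      obtain ⟨d, hd⟩ := hz
      exact ⟨c + d, by rw [map_add, hc, hd, add_smul]⟩
    | smul r x _ hx =>
      obtain ⟨c, hc⟩ := hx
      exact ⟨r * c, by rw [map_smul, hc, smul_smul]⟩
  rw [eq_top_iff]
  intro q hq
  clear hq
  obtain ⟨x, rfl⟩ := hpsurj q
  have hx := mem_span_groupLike_mul_coconn (K := K) x
  induction hx using Submodule.span_induction with
  | mem z hz =>
    obtain ⟨g, y, hg, hy, rfl⟩ := hz
    obtain ⟨c, hc⟩ := hscal y hy
    rw [map_mul, hc, mul_smul_comm, mul_one]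
    exact Submodule.smul_mem _ _ (Submodule.subset_span (hg.map p))
  | zero => rw [map_zero]; exact Submodule.zero_mem _
  | add x z _ _ hx hz => rw [map_add]; exact Submodule.add_mem _ hx hz
  | smul r x _ hx => rw [map_smul]; exact Submodule.smul_mem _ _ hx

/-- the ideal of the coconnected part lies in every Hopf ideal with quotient of multiplicative
type -/
theorem augJ_le_of_isMultTypeConst (I : Ideal A) [I.IsHopfIdeal k]
    (hI : SGA3b.IsMultTypeConst k (A ⧸ I)) : augJ (coconn k A) ≤ I := by
  obtain ⟨R', _, _, hff, M, _, ⟨e⟩⟩ := hI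
  have hprim : ∀ y : A ⧸ I, Coalgebra.comul (R := k) y = y ⊗ₜ[k] 1 + 1 ⊗ₜ[k] y → y = 0 := by
    intro y hy
    have h1 : Coalgebra.comul (R := R') ((1 : R') ⊗ₜ[k] y) =
        ((1 : R') ⊗ₜ[k] y) ⊗ₜ[R'] 1 + 1 ⊗ₜ[R'] ((1 : R') ⊗ₜ[k] y) := by
      rw [TensorProduct.comul_tmul, hy, TensorProduct.tmul_add, map_add]
      simp [Algebra.TensorProduct.one_def]
    have h2 : Coalgebra.comul (R := R') (e ((1 : R') ⊗ₜ[k] y)) =
        (e ((1 : R') ⊗ₜ[k] y)) ⊗ₜ[R'] 1 + 1 ⊗ₜ[R'] (e ((1 : R') ⊗ₜ[k] y)) := by
      rw [← CoalgHomClass.map_comp_comul_apply e, h1, map_add, TensorProduct.map_tmul,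
        TensorProduct.map_tmul]
      simp
    have h3 : e ((1 : R') ⊗ₜ[k] y) = 0 :=
      eq_zero_of_primitive_of_basis (MonoidAlgebra.basis M R')
        (fun i => by rw [MonoidAlgebra.basis_apply]; exact MonoidAlgebra.isGroupLikeElem_single_one i)
        1 (by rw [MonoidAlgebra.basis_apply]; rfl) _ h2
    have h4 : ((1 : R') ⊗ₜ[k] y : R' ⊗[k] (A ⧸ I)) = 0 := by
      have := congrArg e.symm h3
      rwa [map_zero, BialgEquiv.symm_apply_apply] at this
    exact (Module.FaithfullyFlat.tensorProduct_mk_injective (A := k) (B := R') (A ⧸ I))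
      (h4.trans (TensorProduct.tmul_zero _ _).symm)
  letI := hopfCoconn (k := k) (A := A)
  let φ : coconn k A →ₐc[k] A ⧸ I :=
    (Bialgebra.Quotient.mkBialgHom (R := k) I).comp (inclCoconn (k := k) (A := A))
  unfold augJ
  rw [Ideal.span_le]
  rintro a ⟨haB, ha⟩
  have h := trivial_of_unipotent_of_noPrim φ isUnipotent_coconn hprim ⟨a, haB⟩
  have h' : Ideal.Quotient.mk I a = algebraMap k (A ⧸ I) (Coalgebra.counit (R := k) a) := h
  rw [ha, map_zero] at h'
  exact Ideal.Quotient.eq_zero_iff_mem.mp h'

end mult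

end Groth.Agent.Helper2.MultPart
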