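import Mathlib
import Groth.Agent.Lib.Helper2.Unip.BaseChange
import Groth.Agent.Lib.Helper2.Unip.Coconn

/-!
# Unipotence of the generic fibre implies unipotence of the other fibres (helper2)

`A` a domain with fraction field `K`, `H` a flat commutative `A`-bialgebra.  If `K ⊗ H` is unipotent,
then so is `κ ⊗ H` for every field `κ` over `A`.
-/

set_option autoImplicit false
open scoped TensorProduct
open TensorProduct Groth.Agent.Helper9

namespace Groth.Agent.Helper2.Unip

universe u v w w'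

section general

variable {k : Type u} [CommRing k] (R : Type v) [CommRing R] [Algebra k R]
  {A : Type w} [CommRing A] [Bialgebra k A]

/-- the unipotent filtration property is preserved by base change -/
lemma baseChange_succ (F G : Submodule k A)
    (hFG : ∀ a ∈ G, Coalgebra.comul (R := k) a - a ⊗ₜ[k] (1 : A) ∈
      LinearMap.range (F.subtype.rTensor A))
    (x : R ⊗[k] A) (hx : x ∈ G.baseChange R) :
    Coalgebra.comul (R := R) x - x ⊗ₜ[R] (1 : R ⊗[k] A) ∈
      LinearMap.range ((F.baseChange R).subtype.rTensor (R ⊗[k] A)) := by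
  let δ : R ⊗[k] A →ₗ[R] (R ⊗[k] A) ⊗[R] (R ⊗[k] A) :=
    Coalgebra.comul (R := R) (A := R ⊗[k] A) -
      (TensorProduct.mk R (R ⊗[k] A) (R ⊗[k] A)).flip 1
  have hδ : ∀ y, δ y = Coalgebra.comul (R := R) y - y ⊗ₜ[R] (1 : R ⊗[k] A) := fun y => rfl
  rw [← hδ]
  have hle : G.baseChange R ≤
      (LinearMap.range ((F.baseChange R).subtype.rTensor (R ⊗[k] A))).comap δ := by
    rw [Submodule.baseChange_eq_span, Submodule.span_le]
    rintro _ ⟨a, ha, rfl⟩
    rw [SetLike.mem_coe, Submodule.mem_comap, hδ]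
    show Coalgebra.comul (R := R) ((1 : R) ⊗ₜ[k] a) - ((1 : R) ⊗ₜ[k] a) ⊗ₜ[R] (1 : R ⊗[k] A) ∈ _
    have h1 : ((1 : R) ⊗ₜ[k] a) ⊗ₜ[R] (1 : R ⊗[k] A) =
        Θe R A ((1 : R) ⊗ₜ[k] (a ⊗ₜ[k] (1 : A))) := by
      rw [Θe_tmul, Algebra.TensorProduct.one_def]
    rw [comul_tmul_eq, h1, ← map_sub, ← TensorProduct.tmul_sub]
    exact Θe_mem_range F 1 _ (hFG a ha)
  exact hle hx

end general

section domain

variable (A : Type u) [CommRing A] [IsDomain A] (K : Type v) [Field K] [Algebra A K]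
  [IsFractionRing A K] (H : Type w) [CommRing H] [Bialgebra A H] [Module.Flat A H]

/-- the inclusion into the generic fibre -/
noncomputable def inc : H →ₗ[A] K ⊗[A] H := TensorProduct.mk A K H 1

variable {H}

lemma inc_apply (h : H) : inc A K H h = (1 : K) ⊗ₜ[A] h := rfl

lemma inc_injective : Function.Injective (inc A K H) :=
  Algebra.TensorProduct.includeRight_injective (A := K) (B := H) (IsFractionRing.injective A K)

/-- clearing denominators -/
lemma exists_smul_eq_inc (w : K ⊗[A] H) : ∃ b : A, b ≠ 0 ∧ ∃ h : H, b • w = inc A K H h := by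
  induction w using TensorProduct.induction_on with
  | zero => exact ⟨1, one_ne_zero, 0, by simp⟩
  | tmul c h =>
    obtain ⟨x, y, hy, rfl⟩ := IsFractionRing.div_surjective A c
    have hy0 : y ≠ 0 := nonZeroDivisors.ne_zero hy
    have hyK : algebraMap A K y ≠ 0 := by
      rw [Ne, map_eq_zero_iff _ (IsFractionRing.injective A K)]
      exact hy0
    refine ⟨y, hy0, x • h, ?_⟩
    rw [inc_apply, TensorProduct.smul_tmul', Algebra.smul_def, mul_div_cancel₀ _ hyK,
      TensorProduct.tmul_smul, TensorProduct.smul_tmul', Algebra.smul_def, mul_one]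
  | add w₁ w₂ h₁ h₂ =>
    obtain ⟨b₁, hb₁, g₁, e₁⟩ := h₁
    obtain ⟨b₂, hb₂, g₂, e₂⟩ := h₂
    refine ⟨b₁ * b₂, mul_ne_zero hb₁ hb₂, b₂ • g₁ + b₁ • g₂, ?_⟩
    rw [smul_add, map_add, map_smul, map_smul, ← e₁, ← e₂, smul_smul, smul_smul, mul_comm b₁ b₂]

variable (H) in
/-- the filtration of `H` induced by the filtration of the generic fibre -/
noncomputable def filtGen (n : ℕ) : Submodule A H :=
  Submodule.comap (inc A K H) ((filt K (K ⊗[A] H) n).restrictScalars A)

lemma mem_filtGen {n : ℕ} {h : H} :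
    h ∈ filtGen A K H n ↔ (1 : K) ⊗ₜ[A] h ∈ filt K (K ⊗[A] H) n := Iff.rfl

lemma filtGen_zero : filtGen A K H 0 = ⊥ := by
  rw [eq_bot_iff]
  intro h hh
  rw [mem_filtGen, filt_zero, Submodule.mem_bot] at hh
  rw [Submodule.mem_bot]
  apply inc_injective A K
  rw [inc_apply, hh, map_zero]

lemma filtGen_mono : Monotone (filtGen A K H) := by
  intro m n hmn h hh
  rw [mem_filtGen] at hh ⊢
  exact filt_mono hmn hh

lemma smul_one_tmul (c : A) (h : H) :
    ((1 : K) ⊗ₜ[A] (c • h) : K ⊗[A] H) = algebraMap A K c • ((1 : K) ⊗ₜ[A] h) := by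
  rw [TensorProduct.tmul_smul, TensorProduct.smul_tmul', TensorProduct.smul_tmul',
    Algebra.smul_def, mul_one, smul_eq_mul, mul_one]

/-- the induced filtration is saturated -/
lemma mem_filtGen_of_smul_mem {n : ℕ} {c : A} (hc : c ≠ 0) {h : H}
    (hh : c • h ∈ filtGen A K H n) : h ∈ filtGen A K H n := by
  rw [mem_filtGen] at hh ⊢
  rw [smul_one_tmul] at hh
  have hcK : algebraMap A K c ≠ 0 := by
    rw [Ne, map_eq_zero_iff _ (IsFractionRing.injective A K)]
    exact hc
  have := Submodule.smul_mem _ (algebraMap A K c)⁻¹ hh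
  rwa [smul_smul, inv_mul_cancel₀ hcK, one_smul] at this

/-- `filtGen n ⊗ H` is saturated in `H ⊗ H` -/
lemma mem_range_of_smul_mem {n : ℕ} {c : A} (hc : c ≠ 0) (z : H ⊗[A] H)
    (hz : c • z ∈ LinearMap.range ((filtGen A K H n).subtype.rTensor H)) :
    z ∈ LinearMap.range ((filtGen A K H n).subtype.rTensor H) := by
  rw [← rTensor_mkQ] at hz ⊢
  rw [LinearMap.mem_ker] at hz ⊢
  set Q := H ⧸ filtGen A K H n
  let m : Q →ₗ[A] Q := LinearMap.lsmul A Q c
  have hm : Function.Injective m := by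
    rw [← LinearMap.ker_eq_bot, eq_bot_iff]
    intro q hq
    obtain ⟨h, rfl⟩ := Submodule.mkQ_surjective _ q
    rw [LinearMap.mem_ker] at hq
    have h1 : (filtGen A K H n).mkQ (c • h) = 0 := by
      rw [map_smul]; exact hq
    rw [Submodule.mkQ_apply, Submodule.Quotient.mk_eq_zero] at h1
    rw [Submodule.mem_bot, Submodule.mkQ_apply, Submodule.Quotient.mk_eq_zero]
    exact mem_filtGen_of_smul_mem A K hc h1
  have hm2 : Function.Injective (m.rTensor H) :=
    Module.Flat.rTensor_preserves_injective_linearMap m hm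
  apply hm2
  rw [map_zero]
  have h2 : ∀ y : Q ⊗[A] H, m.rTensor H y = c • y := by
    intro y
    induction y using TensorProduct.induction_on with
    | zero => simp
    | add a b ha hb => rw [map_add, ha, hb, smul_add]
    | tmul q h => rw [LinearMap.rTensor_tmul, TensorProduct.smul_tmul']; rfl
  rw [h2, ← map_smul, hz]

/-- clearing denominators in `filt n ⊗ (K ⊗ H)` -/
lemma exists_smul_eq_Θe {n : ℕ} (t : (filt K (K ⊗[A] H) n) ⊗[K] (K ⊗[A] H)) :
    ∃ c : A, c ≠ 0 ∧ ∃ s : (filtGen A K H n) ⊗[A] H,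
      c • ((filt K (K ⊗[A] H) n).subtype.rTensor (K ⊗[A] H) t) =
        Θe K H ((1 : K) ⊗ₜ[A] ((filtGen A K H n).subtype.rTensor H s)) := by
  induction t using TensorProduct.induction_on with
  | zero => exact ⟨1, one_ne_zero, 0, by simp⟩
  | tmul y w =>
    obtain ⟨a, ha, f, hf⟩ := exists_smul_eq_inc A K (y : K ⊗[A] H)
    obtain ⟨b, hb, g, hg⟩ := exists_smul_eq_inc A K w
    have hfmem : f ∈ filtGen A K H n := by
      rw [mem_filtGen, ← inc_apply, ← hf]
      have : a • (y : K ⊗[A] H) = algebraMap A K a • (y : K ⊗[A] H) :=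
        (algebraMap_smul K a (y : K ⊗[A] H)).symm
      rw [this]
      exact Submodule.smul_mem _ _ y.2
    refine ⟨a * b, mul_ne_zero ha hb, (⟨f, hfmem⟩ : filtGen A K H n) ⊗ₜ[A] g, ?_⟩
    rw [LinearMap.rTensor_tmul, LinearMap.rTensor_tmul, Submodule.subtype_apply,
      Submodule.subtype_apply, Θe_tmul]
    have e1 : (a * b) • ((y : K ⊗[A] H) ⊗ₜ[K] w) = (a • (y : K ⊗[A] H)) ⊗ₜ[K] (b • w) := by
      rw [← algebraMap_smul K b w, TensorProduct.tmul_smul, algebraMap_smul,
        ← TensorProduct.smul_tmul', smul_smul, mul_comm]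
    rw [e1, hf, hg]
    rfl
  | add t₁ t₂ h₁ h₂ =>
    obtain ⟨c₁, hc₁, s₁, e₁⟩ := h₁
    obtain ⟨c₂, hc₂, s₂, e₂⟩ := h₂
    refine ⟨c₁ * c₂, mul_ne_zero hc₁ hc₂, c₂ • s₁ + c₁ • s₂, ?_⟩
    rw [map_add, smul_add, map_add, TensorProduct.tmul_add, map_add, map_smul, map_smul,
      TensorProduct.tmul_smul, TensorProduct.tmul_smul]
    have hsm : ∀ (c : A) (y : K ⊗[A] (H ⊗[A] H)), Θe K H (c • y) = c • Θe K H y := by
      intro c y
      rw [← algebraMap_smul K c y, map_smul, algebraMap_smul]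
    rw [hsm, hsm, ← e₁, ← e₂, smul_smul, smul_smul, mul_comm c₁ c₂]

lemma filtGen_succ (n : ℕ) (h : H) (hh : h ∈ filtGen A K H (n + 1)) :
    Coalgebra.comul (R := A) h - h ⊗ₜ[A] (1 : H) ∈
      LinearMap.range ((filtGen A K H n).subtype.rTensor H) := by
  rw [mem_filtGen, mem_filt_succ] at hh
  obtain ⟨t, ht⟩ := hh
  obtain ⟨c, hc, s, hs⟩ := exists_smul_eq_Θe A K t
  set z := Coalgebra.comul (R := A) h - h ⊗ₜ[A] (1 : H) with hz
  have h1 : Θe K H ((1 : K) ⊗ₜ[A] z) =
      Coalgebra.comul (R := K) ((1 : K) ⊗ₜ[A] h) -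
        ((1 : K) ⊗ₜ[A] h) ⊗ₜ[K] (1 : K ⊗[A] H) := by
    rw [hz, TensorProduct.tmul_sub, map_sub, ← comul_tmul_eq, Θe_tmul,
      Algebra.TensorProduct.one_def]
  rw [ht, ← h1] at hs
  -- `c • z` lies in the range
  have h2 : c • Θe K H ((1 : K) ⊗ₜ[A] z) = Θe K H ((1 : K) ⊗ₜ[A] (c • z)) := by
    rw [TensorProduct.tmul_smul, ← algebraMap_smul K c ((1 : K) ⊗ₜ[A] z), map_smul,
      algebraMap_smul]
  rw [h2] at hs
  have h3 := (Θe K H).injective hs
  have hinj2 : Function.Injective
      (Algebra.TensorProduct.includeRight : H ⊗[A] H →ₐ[A] K ⊗[A] (H ⊗[A] H)) :=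
    Algebra.TensorProduct.includeRight_injective (A := K) (B := H ⊗[A] H)
      (IsFractionRing.injective A K)
  have h4 : c • z = (filtGen A K H n).subtype.rTensor H s := hinj2 h3
  exact mem_range_of_smul_mem A K hc z ⟨s, h4.symm⟩

end domain

section main

variable {A : Type u} [CommRing A] [IsDomain A] (K : Type v) [Field K] [Algebra A K]
  [IsFractionRing A K] {H : Type w} [CommRing H] [Bialgebra A H] [Module.Flat A H]

/-- unipotence of the generic fibre implies unipotence of every fibre -/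
theorem isUnipotent_fibre (hK : HopfRep.IsUnipotent K (K ⊗[A] H))
    (κ : Type w') [Field κ] [Algebra A κ] : HopfRep.IsUnipotent κ (κ ⊗[A] H) := by
  refine isUnipotent_of_filtration (fun n => (filtGen A K H n).baseChange κ) ?_ ?_ ?_ ?_
  · show (filtGen A K H 0).baseChange κ = ⊥
    rw [filtGen_zero, Submodule.baseChange_bot]
  · intro m n hmn
    show (filtGen A K H m).baseChange κ ≤ (filtGen A K H n).baseChange κ
    rw [Submodule.baseChange_eq_span, Submodule.baseChange_eq_span]
    exact Submodule.span_mono (Set.image_mono (filtGen_mono A K hmn))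
  · intro x
    induction x using TensorProduct.induction_on with
    | zero => exact ⟨0, Submodule.zero_mem _⟩
    | tmul r a =>
      obtain ⟨n, hn⟩ := exists_mem_filt_of_isUnipotent hK ((1 : K) ⊗ₜ[A] a)
      exact ⟨n, Submodule.tmul_mem_baseChange_of_mem r (mem_filtGen A K |>.mpr hn)⟩
    | add x y hx hy =>
      obtain ⟨n, hn⟩ := hx
      obtain ⟨m, hm⟩ := hy
      have hmono : ∀ {a b : ℕ}, a ≤ b →
          (filtGen A K H a).baseChange κ ≤ (filtGen A K H b).baseChange κ := by
        intro a b hab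
        rw [Submodule.baseChange_eq_span, Submodule.baseChange_eq_span]
        exact Submodule.span_mono (Set.image_mono (filtGen_mono A K hab))
      exact ⟨max n m, Submodule.add_mem _ (hmono (le_max_left n m) hn)
        (hmono (le_max_right n m) hm)⟩
  · intro n x hx
    exact baseChange_succ κ (filtGen A K H n) (filtGen A K H (n + 1)) (filtGen_succ A K n) x hx

end main

end Groth.Agent.Helper2.Unip
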